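import Cfsg.Agent.CyclicEvenNorm.Basic
import Cfsg.Agent.S2202
import Cfsg.Agent.SmallGroups.Basic

/-!
# Groups in which the subgroups of a cyclic subgroup of even order share their normalizer: 2-subgroups
-/

set_option autoImplicit false

namespace Cfsg.Agent.CycNorm

open Subgroup
open Cfsg.Agent.TwoFusion

variable {G : Type*} [Group G] [Finite G] (hG : Hyp G)
include hG

/-- In a 2-subgroup the square of an element of order four is central. -/
theorem sq_central {S : Subgroup G} (hS : IsPGroup 2 S) {x : G} (hxS : x ∈ S) (hx : orderOf x = 4)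
    {h : G} (hh : h ∈ S) : Commute h (x * x) := by
  haveI : Fact (Nat.Prime 2) := ⟨Nat.prime_two⟩
  have hs : orderOf (x * x) = 2 := orderOf_sq_of_four hx
  have hsx : x * x ∈ zpowers x := mul_mem (mem_zpowers x) (mem_zpowers x)
  set T : Subgroup G := S ⊓ centralizer ({x * x} : Set G) with hT
  by_contra hcon
  have hmemT : ∀ c, c ∈ T ↔ c ∈ S ∧ Commute c (x * x) := fun c => by
    rw [hT, mem_inf, mem_centralizer_singleton_iff]
    exact Iff.rfl
  -- an element `g` normalising `T` outside it, with square in `T`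
  obtain ⟨g, hgS, hgT, hgn, hg2⟩ : ∃ g ∈ S, g ∉ T ∧ (∀ c ∈ T, g * c * g⁻¹ ∈ T) ∧ g * g ∈ T := by
    haveI : Group.IsNilpotent S := hS.isNilpotent
    have hlt : T.subgroupOf S < ⊤ := lt_top_iff_ne_top.2 fun he => hcon
      ((hmemT h).1 ((Subgroup.subgroupOf_eq_top.1 he) hh)).2
    obtain ⟨g₀, hg₀n, hg₀⟩ := SetLike.exists_of_lt (Group.normalizerCondition_of_isNilpotent _ hlt)
    obtain ⟨k, hk⟩ := exists_pow_two hS g₀.2
    have hex : ∃ i, (g₀ : G) ^ 2 ^ i ∈ T := ⟨k, by rw [← hk, pow_orderOf_eq_one]; exact one_mem T⟩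
    classical
    have hi0 : Nat.find hex ≠ 0 := fun h0 => by
      have := Nat.find_spec hex
      rw [h0, pow_zero, pow_one] at this
      exact hg₀ this
    obtain ⟨i, hi⟩ : ∃ i, Nat.find hex = i + 1 := ⟨Nat.find hex - 1, by omega⟩
    refine ⟨(g₀ : G) ^ 2 ^ i, pow_mem g₀.2 _, Nat.find_min hex (by omega), fun c hc => ?_, ?_⟩
    · have h1 : g₀ ^ 2 ^ i ∈ normalizer ((T.subgroupOf S : Subgroup S) : Set S) := pow_mem hg₀n _
      have h2 := (mem_normalizer_iff.1 h1 ⟨c, ((hmemT c).1 hc).1⟩).1 (mem_subgroupOf.2 hc)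
      simpa [mem_subgroupOf] using h2
    · have := Nat.find_spec hex
      rw [hi, pow_succ, pow_mul, pow_two] at this
      exact this
  have hxT : x ∈ T := (hmemT x).2 ⟨hxS, (Commute.refl x).mul_right (Commute.refl x)⟩
  obtain ⟨x', hx'⟩ : ∃ x', x' = g * x * g⁻¹ := ⟨_, rfl⟩
  have hx'T : x' ∈ T := hx' ▸ hgn x hxT
  have hord' : orderOf x' = 4 := by rw [hx', orderOf_conj', hx]
  have hs' : x' * x' = g * (x * x) * g⁻¹ := by rw [hx']; group
  have hne : x' * x' ≠ x * x := fun he => hgT ((hmemT g).2 ⟨hgS, by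
    rw [hs'] at he
    calc g * (x * x) = g * (x * x) * g⁻¹ * g := by group
      _ = x * x * g := by rw [he]⟩)
  -- everything in `T` normalises `⟨x⟩`
  have hnx : ∀ c ∈ T, c * x * c⁻¹ ∈ zpowers x := fun c hc =>
    conj_mem hG hs ((Commute.refl x).mul_left (Commute.refl x)) (Or.inr hsx) ((hmemT c).1 hc).2
  have hnx' : ∀ c ∈ T, c * x' * c⁻¹ ∈ zpowers x' := by
    intro c hc
    refine conj_mem hG (orderOf_sq_of_four hord') ((Commute.refl x').mul_left (Commute.refl x'))
      (Or.inr (mul_mem (mem_zpowers x') (mem_zpowers x'))) ?_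
    have hc' : g⁻¹ * c * g ∈ T := by
      have h1 : g⁻¹ * c * g = (g * g)⁻¹ * (g * c * g⁻¹) * (g * g) := by group
      rw [h1]
      exact mul_mem (mul_mem (inv_mem hg2) (hgn c hc)) hg2
    rw [hs']
    show c * (g * (x * x) * g⁻¹) = g * (x * x) * g⁻¹ * c
    calc c * (g * (x * x) * g⁻¹) = g * (g⁻¹ * c * g * (x * x)) * g⁻¹ := by group
      _ = g * (x * x * (g⁻¹ * c * g)) * g⁻¹ := by rw [((hmemT _).1 hc').2.eq]
      _ = g * (x * x) * g⁻¹ * c := by group
  have hinter : ∀ z, z ∈ zpowers x → z ∈ zpowers x' → z = 1 := by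
    intro z hz hz'
    by_contra hz1
    obtain ⟨k, hk⟩ := exists_pow_two hS ((zpowers_le.2 hxS) hz)
    obtain ⟨w, hwz, hw⟩ := exists_order_two hk hz1
    exact hne ((involution_unique (orderOf_sq_of_four hord') hw (mul_mem (mem_zpowers x') (mem_zpowers x'))
      (zpowers_le.2 hz' hwz)).trans (involution_unique hw hs (zpowers_le.2 hz hwz) hsx))
  have hxx' : Commute x x' := commute_of_normalizing (hnx' x hxT) (hnx x' hx'T) hinter
  have hx4 : x ^ (4 : ℤ) = 1 := by
    rw [show (4 : ℤ) = ((4 : ℕ) : ℤ) by norm_num, zpow_natCast, ← hx, pow_orderOf_eq_one]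
  have hssprod : (x * x') * (x * x') = x * x * (x' * x') := by
    rw [mul_assoc x, ← mul_assoc x', ← hxx'.eq]; group
  have hord2 : orderOf (x * x * (x' * x')) = 2 := by
    refine orderOf_eq_prime ?_ fun he => hne ?_
    · rw [((hxx'.mul_left hxx').mul_right (hxx'.mul_left hxx')).mul_pow, pow_two, pow_two,
        involution_mul_self hs, involution_mul_self (orderOf_sq_of_four hord'), mul_one]
    · calc x' * x' = (x * x)⁻¹ * (x * x * (x' * x')) := by group
        _ = x * x := by rw [he, mul_one, involution_inv hs]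
  -- `g²` centralises `x`
  have hgs' : g * (x' * x') * g⁻¹ = x * x := by
    rw [hs']
    calc g * (g * (x * x) * g⁻¹) * g⁻¹ = g * g * (x * x) * (g * g)⁻¹ := by group
      _ = x * x := by rw [((hmemT _).1 hg2).2.eq, mul_inv_cancel_right]
  have hgss : Commute g (x * x * (x' * x')) := by
    show g * (x * x * (x' * x')) = x * x * (x' * x') * g
    calc g * (x * x * (x' * x')) = g * (x * x) * g⁻¹ * (g * (x' * x') * g⁻¹) * g := by group
      _ = x' * x' * (x * x) * g := by rw [hgs', ← hs']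
      _ = x * x * (x' * x') * g := by rw [((hxx'.mul_left hxx').mul_right (hxx'.mul_left hxx')).eq]
  set c := g * g with hcdef
  have hgx' : g * x' * g⁻¹ = c * x * c⁻¹ := by rw [hx', hcdef]; group
  have hcx : Commute c x := by
    obtain ⟨e, he⟩ := hnx c hg2
    simp only at he
    have hconj : g * (x * x') * g⁻¹ ∈ zpowers (x * x') := by
      refine conj_mem hG hord2 ?_ (Or.inr ?_) hgss
      · rw [← hssprod]
        exact (Commute.refl (x * x')).mul_left (Commute.refl (x * x'))
      · rw [← hssprod]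
        exact mul_mem (mem_zpowers _) (mem_zpowers _)
    obtain ⟨j, hj⟩ := hconj
    simp only at hj
    rw [show g * (x * x') * g⁻¹ = g * x * g⁻¹ * (g * x' * g⁻¹) by group, ← hx', hgx', ← he,
      hxx'.mul_zpow, ← (hxx'.zpow_left e).eq] at hj
    have h1 : x ^ (j - e) = x' ^ (1 - j) := by
      calc x ^ (j - e) = x ^ (-e) * (x ^ j * x' ^ j) * x' ^ (-j) := by group
        _ = x ^ (-e) * (x ^ e * x') * x' ^ (-j) := by rw [hj]
        _ = x' ^ (1 - j) := by group
    have hz := hinter _ (zpow_mem_zpowers x _) (h1 ▸ zpow_mem_zpowers x' _)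
    have hz' : x' ^ (1 - j) = 1 := h1 ▸ hz
    rw [← orderOf_dvd_iff_zpow_eq_one, hx] at hz
    rw [← orderOf_dvd_iff_zpow_eq_one, hord'] at hz'
    have h4 : ((4 : ℕ) : ℤ) ∣ 1 - e := by
      have := dvd_add hz hz'
      rwa [show j - e + (1 - j) = 1 - e by ring] at this
    rw [← hx, orderOf_dvd_iff_zpow_eq_one, zpow_sub, zpow_one, mul_inv_eq_one] at h4
    show c * x = x * c
    calc c * x = c * x * c⁻¹ * c := by group
      _ = x * c := by rw [← he, ← h4]
  have hgx'x : g * x' * g⁻¹ = x := by rw [hgx', hcx.eq, mul_inv_cancel_right]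
  -- an element whose normalised cyclic subgroup contains `x x'⁻¹`
  have key : ∀ y z : G, orderOf z = 2 → z ∈ zpowers y → Commute x z →
      x * y * x⁻¹ * y⁻¹ = x * x'⁻¹ → y * x * y⁻¹ = x' → y * x' * y⁻¹ = x → False := by
    intro y z hz hzy hxz hrat hy1 hy2
    have h1 : x * y * x⁻¹ ∈ zpowers y := by
      refine conj_mem hG hz ?_ (Or.inr hzy) hxz
      obtain ⟨i, hi⟩ := hzy
      rw [← hi]
      exact (Commute.refl y).zpow_left i
    have h2 : x * x'⁻¹ ∈ zpowers y := hrat ▸ mul_mem h1 (inv_mem (mem_zpowers y))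
    obtain ⟨i, hi⟩ := h2
    simp only at hi
    have h3 : y * (x * x'⁻¹) * y⁻¹ = x * x'⁻¹ := by rw [← hi]; group
    rw [show y * (x * x'⁻¹) * y⁻¹ = y * x * y⁻¹ * (y * x' * y⁻¹)⁻¹ by group, hy1, hy2] at h3
    refine hne ?_
    calc x' * x' = x' * (x' * x⁻¹) * x := by group
      _ = x' * x * (x'⁻¹ * x) := by rw [h3]; group
      _ = x * x := by rw [← hxx'.eq]; group
  by_cases hc1 : c = 1
  · -- `g` is an involution
    refine key (x * g) (x * x * (x' * x')) hord2 ?_ ?_ ?_ ?_ ?_
    · have e : (x * g) ^ 4 = x * x * (x' * x') := by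
        have e2 : x * g * (x * g) = x * x' := by
          rw [show x * g * (x * g) = x * (g * x * g⁻¹) * (g * g) by group, ← hx', ← hcdef, hc1, mul_one]
        rw [show (x * g) ^ 4 = x * g * (x * g) * (x * g * (x * g)) by
          rw [pow_succ, pow_succ, pow_succ, pow_one]; simp only [mul_assoc], e2, hssprod]
      rw [← e]
      exact Subgroup.npow_mem_zpowers _ _
    · exact ((Commute.refl x).mul_right (Commute.refl x)).mul_right (hxx'.mul_right hxx')
    · rw [show x * (x * g) * x⁻¹ * (x * g)⁻¹ = x * x * (g * x * g⁻¹)⁻¹ * x⁻¹ by group, ← hx',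
        mul_assoc (x * x), (hxx'.symm.inv_left.inv_right).eq]
      group
    · rw [show x * g * x * (x * g)⁻¹ = x * (g * x * g⁻¹) * x⁻¹ by group, ← hx', hxx'.eq,
        mul_inv_cancel_right]
    · rw [show x * g * x' * (x * g)⁻¹ = x * (g * x' * g⁻¹) * x⁻¹ by group, hgx'x, mul_inv_cancel_right]
  · obtain ⟨k, hk⟩ := exists_pow_two hS ((hmemT c).1 hg2).1
    obtain ⟨z, hzc, hz⟩ := exists_order_two hk hc1
    refine key g z hz (zpowers_le.2 (mul_mem (mem_zpowers g) (mem_zpowers g)) hzc) ?_ ?_ hx'.symm hgx'x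
    · obtain ⟨i, hi⟩ := hzc
      rw [← hi]
      exact hcx.symm.zpow_right i
    · rw [show x * g * x⁻¹ * g⁻¹ = x * (g * x * g⁻¹)⁻¹ by group, ← hx']

/-- In a 2-subgroup every cyclic subgroup of order at least four is normal. -/
theorem cyclic_normal {S : Subgroup G} (hS : IsPGroup 2 S) {x : G} (hxS : x ∈ S) (hx : x * x ≠ 1)
    {h : G} (hh : h ∈ S) : h * x * h⁻¹ ∈ zpowers x := by
  obtain ⟨k, hk⟩ := exists_pow_two hS hxS
  obtain ⟨y, hyx, hy⟩ := exists_order_four hk hx
  have hmem : y * y ∈ zpowers x := mul_mem hyx hyx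
  refine conj_mem hG (orderOf_sq_of_four hy) ?_ (Or.inr hmem)
    (sq_central hG hS (zpowers_le.2 hxS hyx) hy hh)
  obtain ⟨i, hi⟩ := hmem
  rw [← hi]
  exact (Commute.refl x).zpow_left i

/-- A 2-subgroup with central involutions permuted transitively, not only one, is abelian. -/
theorem comm_of_central {S : Subgroup G} (hS : IsPGroup 2 S)
    (hcen : ∀ v ∈ S, orderOf v = 2 → ∀ h ∈ S, Commute h v)
    (htrans : ∀ v ∈ S, orderOf v = 2 → ∀ w ∈ S, orderOf w = 2 →
      ∃ g : G, g * v * g⁻¹ = w ∧ ∀ h ∈ S, g * h * g⁻¹ ∈ S)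
    (htwo : ∃ v ∈ S, ∃ w ∈ S, orderOf v = 2 ∧ orderOf w = 2 ∧ v ≠ w)
    {x y : G} (hxS : x ∈ S) (hyS : y ∈ S) : Commute x y := by
  by_contra hxy
  have hsq : ∀ a ∈ S, ∀ b ∈ S, ¬ Commute a b → a * a ≠ 1 := by
    intro a ha b hb hab he
    have ha1 : a ≠ 1 := fun h => hab (h ▸ Commute.one_left b)
    exact hab (hcen a ha (orderOf_eq_prime (by rw [pow_two]; exact he) ha1) b hb).symm
  have hx2 := hsq x hxS y hyS hxy
  have hy2 := hsq y hyS x hxS fun h => hxy h.symm
  have h1 := cyclic_normal hG hS hyS hy2 hxS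
  have h2 := cyclic_normal hG hS hxS hx2 hyS
  set c := x * y * x⁻¹ * y⁻¹ with hc
  have hcy : c ∈ zpowers y := mul_mem h1 (inv_mem (mem_zpowers y))
  have hcx : c ∈ zpowers x := by
    rw [show c = x * (y * x * y⁻¹)⁻¹ by rw [hc]; group]
    exact mul_mem (mem_zpowers x) (inv_mem h2)
  have hc1 : c ≠ 1 := fun h => hxy (by
    show x * y = y * x
    calc x * y = c * (y * x) := by rw [hc]; group
      _ = y * x := by rw [h, one_mul])
  obtain ⟨k, hk⟩ := exists_pow_two hS (zpowers_le.2 hxS hcx)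
  obtain ⟨z, hzc, hz⟩ := exists_order_two hk hc1
  have hzx := zpowers_le.2 hcx hzc
  have hzy := zpowers_le.2 hcy hzc
  have hzS := zpowers_le.2 hxS hzx
  obtain ⟨z', hz'S, hz', hzz'⟩ : ∃ z' ∈ S, orderOf z' = 2 ∧ z ≠ z' := by
    obtain ⟨v, hv, w, hw, hv2, hw2, hvw⟩ := htwo
    by_cases h : z = v
    · exact ⟨w, hw, hw2, h ▸ hvw⟩
    · exact ⟨v, hv, hv2, h⟩
  obtain ⟨g, hg, hgS⟩ := htrans z hzS hz z' hz'S hz'
  set x' := g * x * g⁻¹ with hx'
  have hx'S : x' ∈ S := hgS x hxS
  have hx'2 : x' * x' ≠ 1 := by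
    rw [hx', show g * x * g⁻¹ * (g * x * g⁻¹) = g * (x * x) * g⁻¹ by group, Ne, conj_eq_one_iff]
    exact hx2
  have hz'x' : z' ∈ zpowers x' := by
    obtain ⟨i, hi⟩ := hzx
    simp only at hi
    exact ⟨i, by show (g * x * g⁻¹) ^ i = z'; rw [conj_zpow, hi, hg]⟩
  have hint : ∀ u ∈ S, z ∈ zpowers u → ∀ w, w ∈ zpowers u → w ∈ zpowers x' → w = 1 := by
    intro u hu hzu w hw hw'
    by_contra hw1
    obtain ⟨j, hj⟩ := exists_pow_two hS (zpowers_le.2 hu hw)
    obtain ⟨r, hrw, hr⟩ := exists_order_two hj hw1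
    exact hzz' ((involution_unique hz hr hzu (zpowers_le.2 hw hrw)).trans
      (involution_unique hr hz' (zpowers_le.2 hw' hrw) hz'x'))
  have hcomm : ∀ u ∈ S, u * u ≠ 1 → z ∈ zpowers u → Commute u x' := fun u hu hu2 hzu =>
    commute_of_normalizing (cyclic_normal hG hS hx'S hx'2 hu) (cyclic_normal hG hS hu hu2 hx'S)
      (hint u hu hzu)
  have hxx' : Commute x x' := hcomm x hxS hx2 hzx
  have hyx' : Commute y x' := hcomm y hyS hy2 hzy
  obtain ⟨m, hm⟩ := exists_pow_two hS hxS
  have hm' : orderOf x' = 2 ^ m := by rw [hx', orderOf_conj', hm]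
  have hm1 : 1 ≤ m := by
    by_contra hm1
    rw [show m = 0 by omega, pow_zero, orderOf_eq_one_iff] at hm
    exact hx2 (by rw [hm, one_mul])
  have htop : ∀ u : G, orderOf u = 2 ^ m → ∀ w : G, orderOf w = 2 → w ∈ zpowers u →
      u ^ 2 ^ (m - 1) = w := by
    intro u hu w hw hwu
    refine involution_unique ?_ hw (Subgroup.npow_mem_zpowers u _) hwu
    rw [orderOf_pow_of_dvd (by positivity) (hu ▸ pow_dvd_pow 2 (Nat.sub_le m 1)), hu,
      Nat.pow_div (Nat.sub_le m 1) (by norm_num), show m - (m - 1) = 1 by omega, pow_one]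
  have hprod : (x * x') ^ 2 ^ (m - 1) = z * z' := by
    rw [hxx'.mul_pow, htop x hm z hz hzx, htop x' hm' z' hz' hz'x']
  have hzz'2 : orderOf (z * z') = 2 := by
    have hcm : Commute z z' := hcen z' hz'S hz' z hzS
    refine orderOf_eq_prime ?_ fun h => hzz' ?_
    · rw [hcm.mul_pow, pow_two, pow_two, involution_mul_self hz, involution_mul_self hz', mul_one]
    · rw [eq_inv_of_mul_eq_one_left h, involution_inv hz']
  have hxx'2 : x * x' * (x * x') ≠ 1 := by
    intro h
    apply hx2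
    have e : x * x = (x' * x')⁻¹ := by
      refine eq_inv_of_mul_eq_one_left ?_
      calc x * x * (x' * x') = x * (x * x') * x' := by simp only [mul_assoc]
        _ = x * (x' * x) * x' := by rw [hxx'.eq]
        _ = x * x' * (x * x') := by simp only [mul_assoc]
        _ = 1 := h
    exact hint x hxS hzx _ (mul_mem (mem_zpowers x) (mem_zpowers x))
      (e ▸ inv_mem (mul_mem (mem_zpowers x') (mem_zpowers x')))
  have hcxx' : c ∈ zpowers (x * x') := by
    have h := cyclic_normal hG hS (mul_mem hxS hx'S) hxx'2 hyS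
    have e : c = x * x' * (y * (x * x') * y⁻¹)⁻¹ := by
      rw [show y * (x * x') * y⁻¹ = y * x * y⁻¹ * (y * x' * y⁻¹) by group, hyx'.eq, mul_inv_cancel_right,
        hc]
      group
    rw [e]
    exact mul_mem (mem_zpowers _) (inv_mem h)
  have := involution_unique hz hzz'2 (zpowers_le.2 hcxx' hzc) (hprod ▸ Subgroup.npow_mem_zpowers _ _)
  exact involution_ne_one hz' (mul_left_cancel (a := z) (this.symm.trans (mul_one z).symm))

/-- If all involution centralisers of a non-abelian simple group are abelian they are of exponent two. -/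
theorem sq_eq_one_of_comm [IsSimpleGroup G] (hna : ¬ IsMulCommutative G) (h2 : 2 ∣ Nat.card G)
    (hab : ∀ t : G, orderOf t = 2 → IsMulCommutative ↥(centralizer ({t} : Set G)))
    {t c : G} (ht : orderOf t = 2) (hc : Commute c t) : c * c = 1 := by
  haveI : Fact (Nat.Prime 2) := ⟨Nat.prime_two⟩
  obtain ⟨S⟩ : Nonempty (Sylow 2 G) := inferInstance
  rcases S2202.result (even_iff_two_dvd.2 h2) hab with h | h | ⟨F, iF, iFt, A, iA, iAf, hchar, hodd, ⟨e⟩⟩
  · exact absurd (h S) (SmallGroups.not_isCyclic_sylow_two hna h2 S)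
  · exfalso
    have hSne : (S : Subgroup G) ≠ ⊥ := S.ne_bot_of_dvd_card h2
    have hS : (S : Subgroup G) = ⊤ := SmallGroups.eq_top_of_normal (h S) hSne
    have hpG : IsPGroup 2 G := fun g => by
      obtain ⟨k, hk⟩ := S.isPGroup' ⟨g, hS ▸ mem_top g⟩
      exact ⟨k, congrArg Subtype.val hk⟩
    haveI : Nontrivial G := IsSimpleGroup.toNontrivial
    haveI := hpG.center_nontrivial
    exact (Subgroup.nontrivial_iff_ne_bot _).1 inferInstance (SelfCentNC.center_eq_bot hna)
  · haveI := hchar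
    -- the abelian factor is trivial
    have hA : ∀ b : A, b = 1 := by
      intro b
      have hz : e.symm (1, b) ∈ Subgroup.center G := by
        rw [Subgroup.mem_center_iff]
        intro g
        apply e.injective
        rw [map_mul, map_mul, MulEquiv.apply_symm_apply]
        exact Prod.ext (by simp) (mul_comm _ _)
      rw [SelfCentNC.center_eq_bot hna, Subgroup.mem_bot] at hz
      have := congrArg e hz
      rw [MulEquiv.apply_symm_apply, map_one] at this
      exact congrArg Prod.snd this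
    apply e.injective
    rw [map_mul, map_one]
    refine Prod.ext ?_ (hA _)
    have hut : (e t).1 * (e t).1 = 1 := by
      rw [← Prod.fst_mul, ← map_mul, involution_mul_self ht, map_one]; rfl
    have hu1 : (e t).1 ≠ 1 := fun h => involution_ne_one ht (e.injective (by
      rw [map_one]; exact Prod.ext h (hA _)))
    have hcu : (e c).1 * (e t).1 = (e t).1 * (e c).1 := by
      rw [← Prod.fst_mul, ← Prod.fst_mul, ← map_mul, ← map_mul, hc.eq]
    show (e c).1 * (e c).1 = 1
    generalize (e t).1 = u at hut hu1 hcu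
    generalize (e c).1 = w at hcu
    have two : (2 : F) = 0 := CharTwo.two_eq_zero
    have hu := congrArg Subtype.val hut
    have hw := congrArg Subtype.val hcu
    simp only [Matrix.SpecialLinearGroup.coe_mul, Matrix.SpecialLinearGroup.coe_one] at hu hw
    have hdu := u.det_coe
    have hdw := w.det_coe
    rw [Matrix.det_fin_two] at hdu hdw
    have u00 := congrFun (congrFun hu 0) 0
    have u11 := congrFun (congrFun hu 1) 1
    have w01 := congrFun (congrFun hw 0) 1
    have w10 := congrFun (congrFun hw 1) 0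
    simp [Matrix.mul_apply, Fin.sum_univ_two] at u00 u11 w01 w10
    have had : u.1 0 0 = u.1 1 1 := by
      have h1 : (u.1 0 0 - u.1 1 1) * (u.1 0 0 - u.1 1 1) = 0 := by
        linear_combination u00 - u11 + (u.1 1 1 * u.1 1 1 - u.1 0 0 * u.1 1 1) * two
      exact sub_eq_zero.1 (mul_self_eq_zero.1 h1)
    have hne : u.1 0 1 ≠ 0 ∨ u.1 1 0 ≠ 0 := by
      by_contra hall
      push Not at hall
      obtain ⟨hb, hc0⟩ := hall
      apply hu1
      rw [hb, zero_mul, add_zero] at u00
      have h1 : (u.1 0 0 - 1) * (u.1 0 0 - 1) = 0 := by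
        linear_combination u00 + (1 - u.1 0 0) * two
      have ha := sub_eq_zero.1 (mul_self_eq_zero.1 h1)
      refine Subtype.ext (Matrix.ext fun i j => ?_)
      fin_cases i <;> fin_cases j <;> simp [hb, hc0, ha, ← had]
    have hAD : w.1 0 0 = w.1 1 1 := by
      rcases hne with hb | hc0
      · refine sub_eq_zero.1 ((mul_eq_zero.1 ?_).resolve_left hb)
        linear_combination w01 + w.1 0 1 * had
      · refine sub_eq_zero.1 ((mul_eq_zero.1 ?_).resolve_left hc0)
        linear_combination -w10 + w.1 1 0 * had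
    refine Subtype.ext (Matrix.ext fun i j => ?_)
    simp only [Matrix.SpecialLinearGroup.coe_mul, Matrix.SpecialLinearGroup.coe_one]
    fin_cases i <;> fin_cases j <;> simp [Matrix.mul_apply, Fin.sum_univ_two]
    · linear_combination hdw + w.1 0 0 * hAD + w.1 0 1 * w.1 1 0 * two
    · linear_combination (-w.1 0 1) * hAD + w.1 0 0 * w.1 0 1 * two
    · linear_combination (-w.1 1 0) * hAD + w.1 0 0 * w.1 1 0 * two
    · linear_combination hdw - w.1 1 1 * hAD + w.1 0 1 * w.1 1 0 * two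

end Cfsg.Agent.CycNorm
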