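import Cfsg.Agent.CyclicEvenNorm.Unique
import Cfsg.Agent.TwoGroups.Recognition
import Cfsg.Agent.Cores.Basic
import Cfsg.Agent.Linear.SmallIso
import Cfsg.Agent.S0508
import Cfsg.Agent.S1230
import Cfsg.Agent.S0215
import Cfsg.Agent.S0205

/-!
# Simple groups in which the subgroups of a cyclic subgroup of even order share their normalizer
are two-dimensional projective special linear groups
-/

set_option autoImplicit false

namespace Cfsg.Agent.CycNorm

open Subgroup
open Cfsg.Agent.TwoFusion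

variable {G : Type*} [Group G] [Finite G]

/-- `t` is an involution in the centre of `S`. -/
abbrev Cen (S : Sylow 2 G) (t : G) : Prop :=
  t ∈ (S : Subgroup G) ∧ orderOf t = 2 ∧ ∀ h ∈ (S : Subgroup G), Commute h t

theorem card_smul (S : Sylow 2 G) (g : G) :
    Nat.card ((g • S : Sylow 2 G) : Subgroup G) = Nat.card (S : Subgroup G) :=
  haveI : Fact (Nat.Prime 2) := ⟨Nat.prime_two⟩
  by rw [Sylow.card_eq_multiplicity, Sylow.card_eq_multiplicity]

theorem Cen.smul {S : Sylow 2 G} {t : G} (h : Cen S t) (g : G) : Cen (g • S) (g * t * g⁻¹) := by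
  refine ⟨sylow_smul_mem.2 ?_, by rw [orderOf_conj', h.2.1], fun c hc => ?_⟩
  · rw [show g⁻¹ * (g * t * g⁻¹) * g = t by group]; exact h.1
  · have h1 := (h.2.2 _ (sylow_smul_mem.1 hc)).eq
    show c * (g * t * g⁻¹) = g * t * g⁻¹ * c
    calc c * (g * t * g⁻¹) = g * (g⁻¹ * c * g * t) * g⁻¹ := by group
      _ = g * (t * (g⁻¹ * c * g)) * g⁻¹ := by rw [h1]
      _ = g * t * g⁻¹ * c := by group

theorem Cen.of_smul {S : Sylow 2 G} {g t : G} (h : Cen (g • S) t) : Cen S (g⁻¹ * t * g) := by
  have := h.smul g⁻¹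
  rwa [inv_smul_smul, inv_inv] at this

/-- Involutions central in a Sylow 2-subgroup and conjugate are conjugate in its normalizer. -/
theorem exists_normalizing_conj (S : Sylow 2 G) {v w g : G} (hv : Cen S v) (hw : Cen S w)
    (hg : g * v * g⁻¹ = w) :
    ∃ n : G, n * v * n⁻¹ = w ∧ ∀ h ∈ (S : Subgroup G), n * h * n⁻¹ ∈ (S : Subgroup G) := by
  haveI : Fact (Nat.Prime 2) := ⟨Nat.prime_two⟩
  have hmem : ∀ z, Cen S z → z ∈ centralizer ((S : Subgroup G) : Set G) :=
    fun z hz => mem_centralizer_iff.2 fun h hh => (hz.2.2 h hh).eq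
  obtain ⟨n, hn, hnv⟩ := Sylow.conj_eq_normalizer_conj_of_mem_centralizer S v g⁻¹ (hmem v hv)
    (by rw [inv_inv, hg]; exact hmem w hw)
  refine ⟨n⁻¹, ?_, fun h hh => (mem_normalizer_iff.1 (inv_mem hn) h).1 hh⟩
  rw [inv_inv, ← hnv, inv_inv, hg]

/-- If `C(t)` has no element of odd order but one it is a given Sylow 2-subgroup centralising `t`. -/
theorem centralizer_eq_sylow {t : G} (S : Sylow 2 G)
    (hS : ∀ h ∈ (S : Subgroup G), Commute h t)
    (hodd : ∀ c, Commute t c → Odd (orderOf c) → c = 1) :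
    centralizer ({t} : Set G) = (S : Subgroup G) := by
  have hP : IsPGroup 2 ↥(centralizer ({t} : Set G)) := by
    rintro ⟨c, hc⟩
    obtain ⟨c₁, c₂, hcc, hc₁, -, hc₁o, k, hk⟩ := exists_odd_two_parts c
    have : c₁ = 1 := by
      refine hodd c₁ ?_ hc₁o
      obtain ⟨i, hi⟩ := hc₁
      rw [← hi]
      exact Commute.zpow_right (mem_centralizer_singleton_iff.1 hc).symm i
    rw [this, one_mul] at hcc
    refine ⟨k, Subtype.ext ?_⟩
    show c ^ 2 ^ k = 1
    rw [hcc, ← hk, pow_orderOf_eq_one]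
  exact S.is_maximal' hP fun h hh => mem_centralizer_singleton_iff.2 (hS h hh).eq

theorem exists_cen (S : Sylow 2 G) (h2 : 2 ∣ Nat.card G) : ∃ t, Cen S t := by
  haveI : Fact (Nat.Prime 2) := ⟨Nat.prime_two⟩
  have hne : (⊤ : Subgroup (S : Subgroup G)) ≠ ⊥ := by
    haveI : Nontrivial (S : Subgroup G) :=
      (Subgroup.nontrivial_iff_ne_bot _).2 (S.ne_bot_of_dvd_card h2)
    exact top_ne_bot
  obtain ⟨z, -, hzc, hz⟩ := TwoGroups.exists_central_involution_of_normal S.isPGroup' ⊤ hne
  exact ⟨z, z.2, by rw [Subgroup.orderOf_coe, hz], fun h hh =>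
    congrArg Subtype.val (Subgroup.mem_center_iff.1 hzc ⟨h, hh⟩)⟩

variable [IsSimpleGroup G]

/-- A central involution of a Sylow 2-subgroup has a conjugate there different from itself. -/
theorem exists_conj_ne (hna : ¬ IsMulCommutative G) {S : Sylow 2 G} {t : G} (ht : Cen S t) :
    ∃ g, g * t * g⁻¹ ∈ (S : Subgroup G) ∧ g * t * g⁻¹ ≠ t := by
  by_contra hall
  push Not at hall
  obtain ⟨N, hN, hodd, hc⟩ := Cfsg.Agent.S0215.result S t ht.2.1 ht.1 hall
  have hbot : N = ⊥ := (hN.eq_bot_or_eq_top).resolve_right fun h => by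
    rw [h, Subgroup.card_top] at hodd
    exact Nat.not_even_iff_odd.2 hodd (even_iff_two_dvd.2 (ht.2.1 ▸ orderOf_dvd_natCard t))
  have : t ∈ Subgroup.center G := Subgroup.mem_center_iff.2 fun g => by
    have h1 := hc g
    rw [hbot, Subgroup.mem_bot] at h1
    calc g * t = t * g * t⁻¹ * g⁻¹ * (g * t) := by rw [h1, one_mul]
      _ = t * g := by group
  rw [SelfCentNC.center_eq_bot hna, Subgroup.mem_bot] at this
  exact involution_ne_one ht.2.1 this

variable (hG : Hyp G) (hna : ¬ IsMulCommutative G)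
include hG hna

/-- Involutions of `C(t)` other than `t` invert its elements of odd order. -/
theorem inverts_of_ne {t v a : G} (ht : orderOf t = 2) (hv : orderOf v = 2) (hvt : Commute v t)
    (hne : v ≠ t) (hodd : Odd (orderOf a)) (hta : Commute t a) : v * a * v⁻¹ = a⁻¹ := by
  by_cases h : centralizer ({v} : Set G) = centralizer ({t} : Set G)
  · have hva : Commute v a := by
      have h1 : a ∈ centralizer ({t} : Set G) := mem_centralizer_singleton_iff.2 hta.eq.symm
      rw [← h] at h1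
      exact (mem_centralizer_singleton_iff.1 h1).symm
    by_cases ha : a = 1
    · subst ha; simp
    exact absurd (eq_of_centralizes hG hna ht hv ha hodd hta hva hvt) hne
  · exact inverts hG ht hv hvt hodd hta h

/-- Two further commuting involutions multiply to `t` if `C(t)` is not a 2-group. -/
theorem mul_eq {t v w a : G} (ht : orderOf t = 2) (hv : orderOf v = 2) (hw : orderOf w = 2)
    (hvt : Commute v t) (hwt : Commute w t) (hvw : Commute v w) (hne : v ≠ w) (hv' : v ≠ t)
    (hw' : w ≠ t) (ha : a ≠ 1) (hodd : Odd (orderOf a)) (hta : Commute t a) : v * w = t :=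
  eq_of_centralizes hG hna ht (prod_involution hv hw hvw hne) ha hodd hta
    (commute_mul_of_inverts (inverts_of_ne hG hna ht hv hvt hv' hodd hta)
      (inverts_of_ne hG hna ht hw hwt hw' hodd hta)) (hvt.mul_left hwt)

omit [IsSimpleGroup G] hna in
/-- A root of order four of `s` centralises the odd elements of `C(s)`. -/
theorem root_commute {y c : G} (hy : orderOf y = 4) (hc : Odd (orderOf c)) (hyc : Commute (y * y) c) :
    Commute y c := by
  have hs := orderOf_sq_of_four hy
  have hyy : Commute (y * y) y := (Commute.refl y).mul_left (Commute.refl y)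
  refine (commute_of_normalizing_coprime (conj_mem hG hs hyy
    (Or.inr (mul_mem (mem_zpowers y) (mem_zpowers y))) hyc.symm)
    (conj_mem hG hs hyc (Or.inl hc) hyy.symm) ?_).symm
  rw [hy, show (4 : ℕ) = 2 ^ 2 by norm_num]
  exact (Nat.coprime_two_right.2 hc).pow_right 2

/-- A square of an element of order four has a 2-group as centraliser unless it is the only central
involution of the Sylow subgroup. -/
theorem odd_trivial_of_square {y t' c : G} (hy : orderOf y = 4) (ht' : orderOf t' = 2)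
    (hyt' : Commute t' y) (hne : t' ≠ y * y) (hyc : Commute (y * y) c) (hc : Odd (orderOf c)) :
    c = 1 := by
  by_contra hc1
  have h1 : Commute y c := root_commute hG hy hc hyc
  have hsq : y * t' * (y * t') = y * y := by
    rw [mul_assoc y, ← mul_assoc t', hyt'.eq, mul_assoc y t', involution_mul_self ht', mul_one]
  have h2 : Commute (y * t') c := by
    refine root_commute hG ?_ hc (hsq.symm ▸ hyc)
    have h4 : (y * t') ^ 4 = 1 := by
      rw [show 4 = 2 * 2 by rfl, pow_mul, pow_two (y * t'), hsq, pow_two,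
        involution_mul_self (orderOf_sq_of_four hy)]
    obtain ⟨i, hi, hi'⟩ := (Nat.dvd_prime_pow Nat.prime_two).1
      (show orderOf (y * t') ∣ 2 ^ 2 from orderOf_dvd_of_pow_eq_one h4)
    have h2' : ¬ orderOf (y * t') ∣ 2 := fun h => involution_ne_one (orderOf_sq_of_four hy) (by
      rw [← hsq, ← pow_two, orderOf_dvd_iff_pow_eq_one.1 h])
    interval_cases i
    · exact absurd (by rw [hi']; norm_num) h2'
    · exact absurd (by rw [hi']; norm_num) h2'
    · exact hi'
  have h3 : Commute t' c := by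
    have e : t' = y⁻¹ * (y * t') := by group
    rw [e]
    exact h1.inv_left.mul_left h2
  exact hne (eq_of_centralizes hG hna (orderOf_sq_of_four hy) ht' hc1 hc hyc h3
    (hyt'.mul_right hyt'))

/-- Some non-central involution of a non-elementary Sylow 2-subgroup is conjugate to a central one. -/
theorem exists_fused (S : Sylow 2 G) (h2 : 2 ∣ Nat.card G) {x : G} (hxS : x ∈ (S : Subgroup G))
    (hx : orderOf x = 4) : ∃ t g : G, Cen S t ∧ g * t * g⁻¹ ∈ (S : Subgroup G) ∧ ¬ Cen S (g * t * g⁻¹) := by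
  haveI : Fact (Nat.Prime 2) := ⟨Nat.prime_two⟩
  by_contra hcon
  push Not at hcon
  -- `hcon` : conjugates in `S` of central involutions are central
  obtain ⟨t₀, ht₀⟩ := exists_cen S h2
  obtain ⟨g₀, hg₀, hg₀ne⟩ := exists_conj_ne hna ht₀
  have ht₁ := hcon t₀ g₀ ht₀ hg₀
  have hother : ∀ z, ∃ t', Cen S t' ∧ t' ≠ z := fun z => by
    by_cases h : t₀ = z
    · exact ⟨_, ht₁, h ▸ hg₀ne⟩
    · exact ⟨t₀, ht₀, h⟩
  have hroot : ∀ y ∈ (S : Subgroup G), orderOf y = 4 → Cen S (y * y) ∧
      centralizer ({y * y} : Set G) = (S : Subgroup G) := by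
    intro y hy hy4
    have hc : ∀ h ∈ (S : Subgroup G), Commute h (y * y) := fun h hh =>
      sq_central hG S.isPGroup' hy hy4 hh
    obtain ⟨t', ht', hne⟩ := hother (y * y)
    exact ⟨⟨mul_mem hy hy, orderOf_sq_of_four hy4, hc⟩, centralizer_eq_sylow S hc fun c h1 h2 =>
      odd_trivial_of_square hG hna hy4 ht'.2.1 (ht'.2.2 y hy).symm hne h1 h2⟩
  -- central involutions have centraliser `S`
  have hcent : ∀ t, Cen S t → centralizer ({t} : Set G) = (S : Subgroup G) := by
    intro t ht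
    refine centralizer_eq_sylow S ht.2.2 fun c htc hco => ?_
    by_contra hc1
    obtain ⟨hs, hCs⟩ := hroot x hxS hx
    obtain ⟨g, hg, hgne⟩ := exists_conj_ne hna hs
    have hs' := hcon _ g hs hg
    set y := g * x * g⁻¹ with hy
    have hy4 : orderOf y = 4 := by rw [hy, orderOf_conj', hx]
    have hyy : y * y = g * (x * x) * g⁻¹ := by rw [hy]; group
    have hS' : centralizer ({g * (x * x) * g⁻¹} : Set G) = (S : Subgroup G) := by
      refine (Subgroup.eq_of_le_of_card_ge (fun h hh => mem_centralizer_singleton_iff.2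
        (hs'.2.2 h hh).eq) ?_).symm
      have h1 : centralizer ({g * (x * x) * g⁻¹} : Set G) ≤ ((g • S : Sylow 2 G) : Subgroup G) := by
        intro h hh
        rw [centralizer_conj_mem, hCs] at hh
        exact sylow_smul_mem.2 hh
      exact (Subgroup.card_le_of_le h1).trans (card_smul S g).le
    have hyS : y ∈ (S : Subgroup G) := by
      rw [← hS', centralizer_conj_mem, hy, show g⁻¹ * (g * x * g⁻¹) * g = x by group,
        mem_centralizer_singleton_iff]
      group
    have hts : ∀ z, centralizer ({z} : Set G) = (S : Subgroup G) → z ≠ t := by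
      rintro z hz rfl
      have h1 : c ∈ centralizer ({z} : Set G) := mem_centralizer_singleton_iff.2 htc.eq.symm
      rw [hz] at h1
      obtain ⟨k, hk⟩ := exists_pow_two S.isPGroup' h1
      exact hc1 (orderOf_eq_one_iff.1 (Nat.eq_one_of_dvd_coprimes
        ((Nat.coprime_two_right.2 hco).pow_right k) dvd_rfl hk.dvd))
    have hprod : x * x * (g * (x * x) * g⁻¹) = t :=
      mul_eq hG hna ht.2.1 hs.2.1 hs'.2.1 (ht.2.2 _ hs.1) (ht.2.2 _ hs'.1) (hs'.2.2 _ hs.1) hgne.symm
        (hts _ hCs) (hts _ hS') hc1 hco htc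
    have hxy : Commute x y := by
      refine commute_of_normalizing (cyclic_normal hG S.isPGroup' hyS ?_ hxS)
        (cyclic_normal hG S.isPGroup' hxS (involution_ne_one (orderOf_sq_of_four hx)) hyS) ?_
      · exact involution_ne_one (orderOf_sq_of_four hy4)
      · intro w hw hw'
        by_contra hw1
        obtain ⟨k, hk⟩ := exists_pow_two S.isPGroup' ((zpowers_le.2 hxS) hw)
        obtain ⟨r, hrw, hr⟩ := exists_order_two hk hw1
        refine hgne ?_
        rw [← hyy]
        exact (involution_unique (orderOf_sq_of_four hy4) hr (mul_mem (mem_zpowers y) (mem_zpowers y))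
          (zpowers_le.2 hw' hrw)).trans
          (involution_unique hr hs.2.1 (zpowers_le.2 hw hrw) (mul_mem (mem_zpowers x) (mem_zpowers x)))
    have hsq : x * y * (x * y) = t := by
      rw [← hprod, ← hyy, mul_assoc x, ← mul_assoc y, ← hxy.eq]
      group
    have h4 : orderOf (x * y) = 4 := by
      have := orderOf_eq_prime_pow (p := 2) (n := 1) (x := x * y) (by
        rw [pow_one, pow_two, hsq]; exact involution_ne_one ht.2.1) (by
        rw [show 2 ^ (1 + 1) = 2 * 2 by norm_num, pow_mul, pow_two (x * y), hsq, pow_two,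
          involution_mul_self ht.2.1])
      simpa using this
    obtain ⟨-, hCt⟩ := hroot _ (mul_mem hxS hyS) h4
    rw [hsq] at hCt
    exact hts t hCt rfl
  obtain ⟨t, ht⟩ := exists_cen S h2
  -- every involution of `S` has a 2-group as centraliser
  have hodd : ∀ v ∈ (S : Subgroup G), orderOf v = 2 → ∀ c, Commute v c → Odd (orderOf c) → c = 1 := by
    intro v hvS hv c hvc hco
    by_contra hc1
    have hv' : ∀ z, Cen S z → z ≠ v := by
      rintro z hz rfl
      have h1 : c ∈ centralizer ({z} : Set G) := mem_centralizer_singleton_iff.2 hvc.eq.symm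
      rw [hcent z hz] at h1
      obtain ⟨k, hk⟩ := exists_pow_two S.isPGroup' h1
      exact hc1 (orderOf_eq_one_iff.1 (Nat.eq_one_of_dvd_coprimes
        ((Nat.coprime_two_right.2 hco).pow_right k) dvd_rfl hk.dvd))
    obtain ⟨t', ht', hne⟩ := hother t
    have he := mul_eq hG hna hv ht.2.1 ht'.2.1 (ht.2.2 v hvS).symm (ht'.2.2 v hvS).symm (ht'.2.2 t ht.1)
      hne.symm (hv' t ht) (hv' t' ht') hc1 hco hvc
    exact hv' v ⟨hvS, hv, fun h hh => he ▸ (ht.2.2 h hh).mul_right (ht'.2.2 h hh)⟩ rfl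
  -- the normalizer of `S` is strongly embedded
  set M := normalizer ((S : Subgroup G) : Set G) with hM
  have hSM : (S : Subgroup G) ≤ M := Subgroup.le_normalizer
  have hinM : ∀ v ∈ M, orderOf v = 2 → v ∈ (S : Subgroup G) := by
    intro v hv hv2
    have hsup : IsPGroup 2 ↥(zpowers v ⊔ (S : Subgroup G)) :=
      (IsPGroup.of_card (n := 1) (by rw [Nat.card_zpowers, hv2, pow_one])).to_sup_of_normal_right'
        S.isPGroup' (zpowers_le.2 hv)
    exact (S.is_maximal' hsup le_sup_right).le ((le_sup_left : zpowers v ≤ _) (mem_zpowers v))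
  have hTI : ∀ g v : G, orderOf v = 2 → v ∈ (S : Subgroup G) → g⁻¹ * v * g ∈ (S : Subgroup G) →
      g ∈ M := by
    intro g v hv hvS hvg
    have hP : IsPGroup 2 ↥(centralizer ({v} : Set G)) := by
      rintro ⟨c, hc⟩
      obtain ⟨c₁, c₂, hcc, hc₁, -, hc₁o, k, hk⟩ := exists_odd_two_parts c
      have : c₁ = 1 := by
        refine hodd v hvS hv c₁ ?_ hc₁o
        obtain ⟨i, hi⟩ := hc₁
        rw [← hi]
        exact Commute.zpow_right (mem_centralizer_singleton_iff.1 hc).symm i
      rw [this, one_mul] at hcc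
      refine ⟨k, Subtype.ext ?_⟩
      show c ^ 2 ^ k = 1
      rw [hcc, ← hk, pow_orderOf_eq_one]
    obtain ⟨P, hP⟩ := hP.exists_le_sylow
    obtain ⟨h, rfl⟩ := MulAction.exists_smul_eq G S P
    have key : ∀ k, k * t * k⁻¹ ∈ centralizer ({v} : Set G) →
        ((h • S : Sylow 2 G) : Subgroup G) ≤ ((k • S : Sylow 2 G) : Subgroup G) := by
      intro k hk c hc
      have h1 : h⁻¹ * (k * t * k⁻¹) * h ∈ (S : Subgroup G) := sylow_smul_mem.1 (hP hk)
      have h2 := (hcon t (h⁻¹ * k) ht (by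
        rwa [show h⁻¹ * k * t * (h⁻¹ * k)⁻¹ = h⁻¹ * (k * t * k⁻¹) * h by group])).smul h
      rw [show h * (h⁻¹ * k * t * (h⁻¹ * k)⁻¹) * h⁻¹ = k * t * k⁻¹ by group] at h2
      have h3 : c ∈ centralizer ({k * t * k⁻¹} : Set G) :=
        mem_centralizer_singleton_iff.2 (h2.2.2 c hc).eq
      rw [centralizer_conj_mem, hcent t ht] at h3
      exact sylow_smul_mem.2 h3
    have h1 : (h • S : Sylow 2 G) = S := by
      have := key 1 (by simpa using mem_centralizer_singleton_iff.2 (ht.2.2 v hvS).symm.eq)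
      rw [one_smul] at this
      exact Sylow.ext (Subgroup.eq_of_le_of_card_ge this (card_smul S h).ge)
    have h2 : (h • S : Sylow 2 G) = g • S := by
      refine Sylow.ext (Subgroup.eq_of_le_of_card_ge (key g ?_) ?_)
      · rw [mem_centralizer_singleton_iff]
        have h3 := (ht.2.2 _ hvg).eq
        calc g * t * g⁻¹ * v = g * (t * (g⁻¹ * v * g)) * g⁻¹ := by group
          _ = g * (g⁻¹ * v * g * t) * g⁻¹ := by rw [h3]
          _ = v * (g * t * g⁻¹) := by group
      · rw [card_smul, card_smul]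
    exact Sylow.smul_eq_iff_mem_normalizer.1 (h2.symm.trans h1)
  have hMtop : M ≠ ⊤ := fun h => by
    haveI hn : (S : Subgroup G).Normal := Subgroup.normalizer_eq_top_iff.1 h
    have hSt : (S : Subgroup G) = ⊤ := SmallGroups.eq_top_of_normal hn (S.ne_bot_of_dvd_card h2)
    have : t ∈ Subgroup.center G := Subgroup.mem_center_iff.2 fun g => (ht.2.2 g (hSt ▸ mem_top g)).eq
    rw [SelfCentNC.center_eq_bot hna, Subgroup.mem_bot] at this
    exact involution_ne_one ht.2.1 this
  have hSE : Cfsg.IsStronglyEmbedded M := by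
    refine Invol.isStronglyEmbedded_of_forall hMtop (even_iff_two_dvd.2
      (ht.2.1 ▸ Subgroup.orderOf_dvd_natCard _ (hSM ht.1))) fun g v hv hvM hvg => ?_
    refine hTI g v hv (hinM v hvM hv) (hinM _ hvg ?_)
    rw [show g⁻¹ * v * g = g⁻¹ * v * (g⁻¹)⁻¹ by group, orderOf_conj', hv]
  obtain ⟨i, hi, hiM⟩ : ∃ i : G, orderOf i = 2 ∧ i ∉ M := by
    by_contra hall
    push Not at hall
    refine hMtop (eq_top_iff.2 fun g _ => inv_mem_iff.1 (hTI g⁻¹ t ht.2.1 ht.1 ?_))
    rw [inv_inv]
    exact hinM _ (hall _ (by rw [orderOf_conj', ht.2.1])) (by rw [orderOf_conj', ht.2.1])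
  obtain ⟨v₀, -, hv₀, -⟩ := se_exists_swap hSE ht.2.1 (hSM ht.1) hi hiM
  have hclass : ∀ z : G, orderOf z = 2 → ∃ g : G, g * t * g⁻¹ = z := by
    intro z hz
    by_cases hzM : z ∈ M
    · obtain ⟨v, -, hv, -⟩ := se_exists_swap hSE hz hzM hi hiM
      refine ⟨v⁻¹ * v₀, ?_⟩
      rw [show v⁻¹ * v₀ * t * (v⁻¹ * v₀)⁻¹ = v⁻¹ * (v₀ * t * v₀⁻¹) * v by group, hv₀, ← hv]
      group
    · obtain ⟨v, -, hv, -⟩ := se_exists_swap hSE ht.2.1 (hSM ht.1) hz hzM
      exact ⟨v, hv⟩
  have hallCen : ∀ v ∈ (S : Subgroup G), orderOf v = 2 → Cen S v := by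
    intro v hvS hv
    obtain ⟨g, rfl⟩ := hclass v hv
    exact hcon t g ht hvS
  obtain ⟨t', ht', hne⟩ := hother t
  have hSab : ∀ y ∈ (S : Subgroup G), ∀ z ∈ (S : Subgroup G), Commute y z := by
    intro y hy z hz
    refine comm_of_central hG S.isPGroup' (fun v hv hv2 => (hallCen v hv hv2).2.2) ?_
      ⟨t', ht'.1, t, ht.1, ht'.2.1, ht.2.1, hne⟩ hy hz
    intro v hv hv2 w hw hw2
    obtain ⟨g₁, hg₁⟩ := hclass v hv2
    obtain ⟨g₂, hg₂⟩ := hclass w hw2
    exact exists_normalizing_conj S (hallCen v hv hv2) (hallCen w hw hw2) (g := g₂ * g₁⁻¹)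
      (by rw [← hg₁, ← hg₂]; group)
  have hab : ∀ z : G, orderOf z = 2 → IsMulCommutative ↥(centralizer ({z} : Set G)) := by
    intro z hz
    obtain ⟨g, rfl⟩ := hclass z hz
    refine ⟨⟨fun c d => Subtype.ext ?_⟩⟩
    have h := hSab _ (hcent t ht ▸ centralizer_conj_mem.1 c.2) _ (hcent t ht ▸ centralizer_conj_mem.1 d.2)
    calc (c : G) * d = g * (g⁻¹ * c * g * (g⁻¹ * d * g)) * g⁻¹ := by group
      _ = g * (g⁻¹ * d * g * (g⁻¹ * c * g)) * g⁻¹ := by rw [h.eq]
      _ = (d : G) * c := by group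
  exact involution_ne_one (orderOf_sq_of_four hx)
    (sq_eq_one_of_comm hG hna h2 hab (orderOf_sq_of_four hx)
      ((Commute.refl x).mul_right (Commute.refl x)))

/-- An involution fused with a central one but not central centralises no element of order four. -/
theorem sq_eq_one_of_commute_fused (S : Sylow 2 G) {t g x : G} (ht : Cen S t)
    (hu : g * t * g⁻¹ ∈ (S : Subgroup G)) (hnc : ¬ Cen S (g * t * g⁻¹)) (hxS : x ∈ (S : Subgroup G))
    (hxu : Commute x (g * t * g⁻¹)) : x * x = 1 := by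
  haveI : Fact (Nat.Prime 2) := ⟨Nat.prime_two⟩
  by_contra hx2
  obtain ⟨u, hudef⟩ : ∃ u, u = g * t * g⁻¹ := ⟨_, rfl⟩
  rw [← hudef] at hu hnc hxu
  obtain ⟨m, hm⟩ := exists_pow_two S.isPGroup' hxS
  obtain ⟨y, hyx, hy⟩ := exists_order_four hm hx2
  have hyS := zpowers_le.2 hxS hyx
  have hyu : Commute y u := by
    obtain ⟨i, hi⟩ := hyx
    rw [← hi]
    exact hxu.zpow_left i
  have hP : Cen (g • S) u := hudef ▸ ht.smul g
  obtain ⟨k, hk, hky⟩ := exists_conj_le_sylow_of_le (g • S : Sylow 2 G)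
    (K := centralizer ({u} : Set G)) (R := zpowers y)
    (fun h hh => mem_centralizer_singleton_iff.2 (hP.2.2 h hh).eq)
    (IsPGroup.of_card (n := 2) (by rw [Nat.card_zpowers, hy]; norm_num))
    (zpowers_le.2 (mem_centralizer_singleton_iff.2 hyu.eq))
  have hku : Commute k u := mem_centralizer_singleton_iff.1 hk
  have hs : Cen S (y * y) := ⟨mul_mem hyS hyS, orderOf_sq_of_four hy,
    fun h hh => sq_central hG S.isPGroup' hyS hy hh⟩
  have hy'4 : orderOf (k * y * k⁻¹) = 4 := by rw [orderOf_conj', hy]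
  have hs' : Cen (g • S) (k * (y * y) * k⁻¹) := by
    have hmem := hky y (mem_zpowers y)
    rw [show k * (y * y) * k⁻¹ = k * y * k⁻¹ * (k * y * k⁻¹) by group]
    exact ⟨mul_mem hmem hmem, orderOf_sq_of_four hy'4,
      fun h hh => sq_central hG (g • S : Sylow 2 G).isPGroup' hmem hy'4 hh⟩
  by_cases hone : ∀ t', Cen S t' → t' = y * y
  · -- one central involution
    have h1 := hone _ hP.of_smul
    have h2 := hone _ hs'.of_smul
    have h3 : u = k * (y * y) * k⁻¹ := mul_left_cancel (mul_right_cancel (h1.trans h2.symm))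
    refine hnc ?_
    have : u = y * y := by
      calc u = k⁻¹ * (k * u) := by group
        _ = k⁻¹ * (u * k) := by rw [hku.eq]
        _ = y * y := by rw [h3]; group
    rw [this]
    exact hs
  push Not at hone
  obtain ⟨t', ht', hne⟩ := hone
  have hodd : ∀ c, Commute (y * y) c → Odd (orderOf c) → c = 1 := fun c h1 h2 =>
    odd_trivial_of_square hG hna hy ht'.2.1 (ht'.2.2 y hyS).symm hne h1 h2
  have hC := centralizer_eq_sylow S hs.2.2 hodd
  have hle : ∀ h ∈ ((g • S : Sylow 2 G) : Subgroup G), k⁻¹ * h * k ∈ (S : Subgroup G) := fun h hh => by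
    rw [← hC, ← centralizer_conj_mem, mem_centralizer_singleton_iff]
    exact (hs'.2.2 h hh).eq
  have heq : (k⁻¹ • (g • S) : Sylow 2 G) = S := by
    refine Sylow.ext (Subgroup.eq_of_le_of_card_ge (fun h hh => ?_) ?_)
    · have := hle _ (sylow_smul_mem.1 hh)
      rwa [show k⁻¹ * (k⁻¹⁻¹ * h * k⁻¹) * k = h by group] at this
    · rw [card_smul, card_smul]
  refine hnc ?_
  have := hP.smul k⁻¹
  rw [heq, show k⁻¹ * u * k⁻¹⁻¹ = u by rw [inv_inv, mul_assoc, ← hku.eq, inv_mul_cancel_left]] at this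
  exact this

/-- A Sylow 2-subgroup that is not elementary has a cyclic subgroup of index two outside which it
consists of involutions. -/
theorem exists_cyclic_inverted (S : Sylow 2 G) (h2 : 2 ∣ Nat.card G) {x₁ : G}
    (hxS : x₁ ∈ (S : Subgroup G)) (hx : orderOf x₁ = 4) :
    ∃ L : Subgroup G, L ≤ (S : Subgroup G) ∧ IsCyclic L ∧ L.relIndex (S : Subgroup G) = 2 ∧
      (∀ s ∈ (S : Subgroup G), s ∉ L → s * s = 1) ∧ ∀ v, Cen S v → v ∈ L := by
  haveI : Fact (Nat.Prime 2) := ⟨Nat.prime_two⟩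
  obtain ⟨t, g, ht, hu, hnc⟩ := exists_fused hG hna S h2 hxS hx
  obtain ⟨u, hudef⟩ : ∃ u, u = g * t * g⁻¹ := ⟨_, rfl⟩
  have huS : u ∈ (S : Subgroup G) := hudef ▸ hu
  have hu2 : orderOf u = 2 := by rw [hudef, orderOf_conj', ht.2.1]
  have huu := involution_mul_self hu2
  have hui := involution_inv hu2
  have hsq : ∀ h ∈ (S : Subgroup G), Commute h u → h * h = 1 := fun h hh hc =>
    sq_eq_one_of_commute_fused hG hna S ht hu hnc hh (hudef ▸ hc)
  -- elements of order at least four are inverted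
  have hord4 : ∀ x ∈ (S : Subgroup G), orderOf x = 4 → u * x * u⁻¹ = x⁻¹ := by
    intro x hxS hx
    obtain ⟨j, hj⟩ := cyclic_normal hG S.isPGroup' hxS (involution_ne_one (orderOf_sq_of_four hx)) huS
    simp only at hj
    have hne : ¬ Commute x u := fun hc => involution_ne_one (orderOf_sq_of_four hx) (hsq x hxS hc)
    have h4 : x ^ (4 : ℤ) = 1 := by
      rw [show (4 : ℤ) = ((4 : ℕ) : ℤ) by norm_num, zpow_natCast, ← hx, pow_orderOf_eq_one]
    have hj' : x ^ j = x ^ (j % 4) := by
      conv_lhs => rw [← Int.emod_add_mul_ediv j 4, zpow_add, zpow_mul, h4, one_zpow, mul_one]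
    have hjo : orderOf (x ^ j) = 4 := by rw [hj, orderOf_conj', hx]
    rcases (show j % 4 = 0 ∨ j % 4 = 1 ∨ j % 4 = 2 ∨ j % 4 = 3 by omega) with h | h | h | h
    · rw [hj', h, zpow_zero, orderOf_one] at hjo; omega
    · rw [hj', h, zpow_one] at hj
      refine absurd ?_ hne
      show x * u = u * x
      calc x * u = u * x * u⁻¹ * u := by rw [← hj]
        _ = u * x := by group
    · rw [hj', h, zpow_two] at hjo
      rw [orderOf_sq_of_four hx] at hjo; omega
    · rw [hj', h] at hj
      rw [← hj, show (3 : ℤ) = 4 + -1 by norm_num, zpow_add, h4, one_mul, zpow_neg_one]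
  have hinv : ∀ x ∈ (S : Subgroup G), x * x ≠ 1 → u * x * u⁻¹ = x⁻¹ := by
    intro x hxS hx2
    obtain ⟨i, hi⟩ := cyclic_normal hG S.isPGroup' hxS hx2 huS
    simp only at hi
    set b := x * (u * x * u⁻¹) with hb
    have hbx : b ∈ zpowers x := mul_mem (mem_zpowers x) ⟨i, hi⟩
    have hxb : Commute x (u * x * u⁻¹) := by rw [← hi]; exact Commute.self_zpow x i
    have hbu : Commute b u := by
      show b * u = u * b
      calc b * u = x * u * x := by rw [hb]; group
        _ = u * (u * x * u⁻¹ * x) := by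
            rw [hui]; simp only [← mul_assoc]; rw [huu, one_mul]
        _ = u * b := by rw [hb, hxb.eq]
    have hb1 : b = 1 := by
      by_contra hb1
      have hb2 : orderOf b = 2 := orderOf_eq_prime
        (by rw [pow_two]; exact hsq b (zpowers_le.2 hxS hbx) hbu) hb1
      -- `u x` would be a root of `b`
      have hbb := involution_mul_self hb2
      have hux : u * x * (u * x) = b := by
        rw [hb, hxb.eq, hui]; group
      have h4 : orderOf (u * x) = 4 := by
        have := orderOf_eq_prime_pow (p := 2) (n := 1) (x := u * x) (by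
          rw [pow_one, pow_two, hux]; exact hb1) (by
          rw [show 2 ^ (1 + 1) = 2 * 2 by norm_num, pow_mul, pow_two (u * x), hux, pow_two, hbb])
        simpa using this
      have h5 := hord4 _ (mul_mem huS hxS) h4
      apply hx2
      rw [hui, mul_inv_rev, hui, ← mul_assoc u u, huu, one_mul] at h5
      calc x * x = x * (x * u * u) := by rw [mul_assoc x u, huu, mul_one]
        _ = x * (x⁻¹ * u * u) := by rw [h5]
        _ = 1 := by rw [mul_assoc x⁻¹, huu]; group
    exact eq_inv_of_mul_eq_one_right hb1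
  set L : Subgroup G := (S : Subgroup G) ⊓ centralizer ({x₁} : Set G) with hLdef
  have hmemL : ∀ h, h ∈ L ↔ h ∈ (S : Subgroup G) ∧ Commute h x₁ := fun h => by
    rw [hLdef, mem_inf, mem_centralizer_singleton_iff]; exact Iff.rfl
  have hx₁2 : x₁ * x₁ ≠ 1 := involution_ne_one (orderOf_sq_of_four hx)
  have hLinv : ∀ h ∈ L, u * h * u⁻¹ = h⁻¹ := by
    intro h hh
    obtain ⟨hhS, hhx⟩ := (hmemL h).1 hh
    by_cases h2 : h * h = 1
    · have hh1 : h⁻¹ = h := inv_eq_of_mul_eq_one_right h2
      have hne : h * x₁ * (h * x₁) ≠ 1 := by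
        rw [mul_assoc, ← mul_assoc x₁, ← hhx.eq, mul_assoc h x₁, ← mul_assoc h h, h2, one_mul]
        exact hx₁2
      have h3 := hinv _ (mul_mem hhS hxS) hne
      have h4 := hinv _ hxS hx₁2
      rw [show u * (h * x₁) * u⁻¹ = u * h * u⁻¹ * (u * x₁ * u⁻¹) by group, h4, mul_inv_rev,
        hhx.inv_inv.symm.eq] at h3
      exact mul_right_cancel h3
    · exact hinv h hhS h2
  have hLab : ∀ a ∈ L, ∀ b ∈ L, Commute a b := by
    intro a ha b hb
    have h1 := hLinv _ (mul_mem ha hb)
    rw [show u * (a * b) * u⁻¹ = u * a * u⁻¹ * (u * b * u⁻¹) by group, hLinv a ha, hLinv b hb,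
      ← mul_inv_rev, inv_inj] at h1
    exact h1.symm
  have huL : u ∉ L := fun h => by
    have h1 := hinv _ hxS hx₁2
    rw [(((hmemL u).1 h).2).eq, mul_inv_cancel_right] at h1
    exact hx₁2 (by nth_rw 2 [h1]; exact mul_inv_cancel x₁)
  have hcases : ∀ s ∈ (S : Subgroup G), s ∉ L → u * s ∈ L := by
    intro s hs hsL
    have hsx : ¬ Commute s x₁ := fun h => hsL ((hmemL s).2 ⟨hs, h⟩)
    refine (hmemL _).2 ⟨mul_mem huS hs, ?_⟩
    obtain ⟨j, hj⟩ := cyclic_normal hG S.isPGroup' hxS hx₁2 hs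
    simp only at hj
    have h4 : x₁ ^ (4 : ℤ) = 1 := by
      rw [show (4 : ℤ) = ((4 : ℕ) : ℤ) by norm_num, zpow_natCast, ← hx, pow_orderOf_eq_one]
    have hj' : x₁ ^ j = x₁ ^ (j % 4) := by
      conv_lhs => rw [← Int.emod_add_mul_ediv j 4, zpow_add, zpow_mul, h4, one_zpow, mul_one]
    have hjo : orderOf (x₁ ^ j) = 4 := by rw [hj, orderOf_conj', hx]
    rcases (show j % 4 = 0 ∨ j % 4 = 1 ∨ j % 4 = 2 ∨ j % 4 = 3 by omega) with h | h | h | h
    · rw [hj', h, zpow_zero, orderOf_one] at hjo; omega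
    · rw [hj', h, zpow_one] at hj
      refine absurd ?_ hsx
      show s * x₁ = x₁ * s
      calc s * x₁ = s * x₁ * s⁻¹ * s := by group
        _ = x₁ * s := by rw [← hj]
    · rw [hj', h, zpow_two] at hjo
      rw [orderOf_sq_of_four hx] at hjo; omega
    · have h3 : s * x₁ * s⁻¹ = x₁⁻¹ := by
        rw [← hj, hj', h, show (3 : ℤ) = 4 + -1 by norm_num, zpow_add, h4, one_mul, zpow_neg_one]
      have h5 : u * x₁⁻¹ * u⁻¹ = x₁ := by
        rw [show u * x₁⁻¹ * u⁻¹ = (u * x₁ * u⁻¹)⁻¹ by group, hinv _ hxS hx₁2, inv_inv]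
      show u * s * x₁ = x₁ * (u * s)
      calc u * s * x₁ = u * (s * x₁ * s⁻¹) * u⁻¹ * (u * s) := by group
        _ = x₁ * (u * s) := by rw [h3, h5]
  have hout : ∀ s ∈ (S : Subgroup G), s ∉ L → s * s = 1 := by
    intro s hs hsL
    have h1 := hLinv _ (hcases s hs hsL)
    rw [hui, ← mul_assoc u u, huu, one_mul, mul_inv_rev, hui] at h1
    have h3 : s = s⁻¹ := mul_right_cancel h1
    nth_rw 2 [h3]
    exact mul_inv_cancel s
  have hLS : L ≤ (S : Subgroup G) := inf_le_left
  have hidx : L.relIndex (S : Subgroup G) = 2 := by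
    rw [Subgroup.relIndex, Subgroup.index_eq_two_iff]
    refine ⟨⟨u, huS⟩, fun b => ?_⟩
    rw [mem_subgroupOf, mem_subgroupOf, Subgroup.coe_mul]
    by_cases hb : (b : G) ∈ L
    · refine Or.inr ⟨hb, fun h => huL ?_⟩
      have := mul_mem (inv_mem hb) h
      rwa [inv_mul_cancel_left] at this
    · refine Or.inl ⟨?_, hb⟩
      have h1 := inv_mem (hcases _ b.2 hb)
      rwa [mul_inv_rev, hui, inv_eq_of_mul_eq_one_right (hout _ b.2 hb)] at h1
  have hcenL : ∀ v, Cen S v → v ∈ L := fun v hv => (hmemL v).2 ⟨hv.1, (hv.2.2 _ hxS).symm⟩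
  have hLcen : ∀ v ∈ L, orderOf v = 2 → Cen S v := by
    intro v hv hv2
    refine ⟨hLS hv, hv2, fun s hs => ?_⟩
    have huv : Commute u v := by
      show u * v = v * u
      calc u * v = u * v * u⁻¹ * u := by group
        _ = v * u := by rw [hLinv v hv, involution_inv hv2]
    by_cases hsL : s ∈ L
    · exact hLab s hsL v hv
    · have h1 := huv.mul_left (hLab _ (hcases s hs hsL) v hv)
      rwa [← mul_assoc, huu, one_mul] at h1
  refine ⟨L, hLS, ?_, hidx, hout, hcenL⟩
  -- `L` is cyclic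
  rcases em (∀ v w : ↥L, orderOf v = 2 → orderOf w = 2 → v = w) with huniq | hmany
  · rcases TwoGroups.cyclic_or_quaternion_of_unique_involution (S.isPGroup'.to_le hLS) huniq with h | ⟨n, hn, -, ⟨e⟩⟩
    · exact h
    · exfalso
      have hcm : ∀ p q : QuaternionGroup (2 ^ (n - 1)), p * q = q * p := fun p q => by
        obtain ⟨a, rfl⟩ := e.surjective p
        obtain ⟨b, rfl⟩ := e.surjective q
        rw [← map_mul, ← map_mul]
        exact congrArg e (Subtype.ext (hLab a a.2 b b.2).eq)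
      have h1 := hcm (QuaternionGroup.a 1) (QuaternionGroup.xa 0)
      rw [QuaternionGroup.a_mul_xa, QuaternionGroup.xa_mul_a] at h1
      injection h1 with h1
      have h2 : ((2 : ℕ) : ZMod (2 * 2 ^ (n - 1))) = 0 := by
        push_cast
        linear_combination -h1
      have := Nat.le_of_dvd two_pos ((ZMod.natCast_eq_zero_iff _ _).1 h2)
      have h4 : 2 ≤ 2 ^ (n - 1) := le_self_pow one_le_two (by omega)
      omega
  exfalso
  push Not at hmany
  obtain ⟨⟨a, haL⟩, ⟨b, hbL⟩, ha, hb, hab⟩ := hmany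
  rw [Subgroup.orderOf_mk] at ha hb
  have hab' : a ≠ b := fun h => hab (Subtype.ext h)
  have hP : Cen (g • S) u := hudef ▸ ht.smul g
  obtain ⟨k, hk, hkR⟩ := exists_conj_le_sylow_of_le (g • S : Sylow 2 G)
    (K := centralizer ({u} : Set G)) (R := (S : Subgroup G) ⊓ centralizer ({u} : Set G))
    (fun h hh => mem_centralizer_singleton_iff.2 (hP.2.2 h hh).eq)
    (S.isPGroup'.to_le inf_le_left) inf_le_right
  have hku : Commute k u := mem_centralizer_singleton_iff.1 hk
  have hmove : ∀ v ∈ L, orderOf v = 2 → g⁻¹ * (k * v * k⁻¹) * g ∈ (S : Subgroup G) := fun v hv hv2 =>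
    sylow_smul_mem.1 (hkR v ⟨hLS hv,
      mem_centralizer_singleton_iff.2 ((hLcen v hv hv2).2.2 u huS).symm.eq⟩)
  have hab2 : orderOf (a * b) = 2 := prod_involution ha hb (hLab a haL b hbL) hab'
  obtain ⟨w, hwL, hw, hw'⟩ : ∃ w ∈ L, orderOf w = 2 ∧ g⁻¹ * (k * w * k⁻¹) * g ∈ L := by
    by_cases h1 : g⁻¹ * (k * a * k⁻¹) * g ∈ L
    · exact ⟨a, haL, ha, h1⟩
    by_cases h2 : g⁻¹ * (k * b * k⁻¹) * g ∈ L
    · exact ⟨b, hbL, hb, h2⟩
    refine ⟨a * b, mul_mem haL hbL, hab2, ?_⟩
    have e : g⁻¹ * (k * (a * b) * k⁻¹) * g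
        = g⁻¹ * (k * a * k⁻¹) * g * (g⁻¹ * (k * b * k⁻¹) * g) := by group
    rw [e]
    have h3 := (Subgroup.mul_mem_iff_of_index_two (H := L.subgroupOf (S : Subgroup G)) hidx
      (a := ⟨_, hmove a haL ha⟩) (b := ⟨_, hmove b hbL hb⟩)).2
      (iff_of_false (fun h => h1 (mem_subgroupOf.1 h)) (fun h => h2 (mem_subgroupOf.1 h)))
    exact mem_subgroupOf.1 h3
  have hwcen := hLcen w hwL hw
  have hw'cen : Cen ((k⁻¹ * g) • S) w := by
    have h1 := (hLcen _ hw' (by
      rw [show g⁻¹ * (k * w * k⁻¹) * g = (g⁻¹ * k) * w * (g⁻¹ * k)⁻¹ by group, orderOf_conj', hw])).smul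
      (k⁻¹ * g)
    rwa [show k⁻¹ * g * (g⁻¹ * (k * w * k⁻¹) * g) * (k⁻¹ * g)⁻¹ = w by group] at h1
  by_cases hodd : ∀ c, Commute w c → Odd (orderOf c) → c = 1
  · have h1 := centralizer_eq_sylow S hwcen.2.2 hodd
    have h2 := centralizer_eq_sylow ((k⁻¹ * g) • S) hw'cen.2.2 hodd
    have heq : ((k⁻¹ * g) • S : Sylow 2 G) = S := Sylow.ext (h2.symm.trans h1)
    have h3 := ht.smul (k⁻¹ * g)
    rw [heq, show k⁻¹ * g * t * (k⁻¹ * g)⁻¹ = k⁻¹ * (g * t * g⁻¹) * k by group, ← hudef, mul_assoc,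
      ← hku.eq, inv_mul_cancel_left, hudef] at h3
    exact hnc h3
  push Not at hodd
  obtain ⟨c, hwc, hco, hc1⟩ := hodd
  obtain ⟨t', ht'L, ht', hne⟩ : ∃ t' ∈ L, orderOf t' = 2 ∧ t' ≠ w := by
    by_cases h : a = w
    · exact ⟨b, hbL, hb, fun h' => hab' (h.trans h'.symm)⟩
    · exact ⟨a, haL, ha, h⟩
  have h1 := mul_eq hG hna hw hu2 ht' (hwcen.2.2 u huS) (hLab t' ht'L w hwL) ((hLcen t' ht'L ht').2.2 u huS)
    (fun h => huL (h ▸ ht'L)) (fun h => huL (h ▸ hwL)) hne hc1 hco hwc
  exact huL (by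
    have := mul_mem hwL (inv_mem ht'L)
    rwa [← h1, mul_inv_cancel_right] at this)

/-- Recognition from a dihedral-shaped Sylow 2-subgroup. -/
theorem psl_of_cyclic_inverted (S : Sylow 2 G) {L : Subgroup G} (hLS : L ≤ (S : Subgroup G))
    [hLc : IsCyclic L] (hidx : L.relIndex (S : Subgroup G) = 2)
    (hout : ∀ s ∈ (S : Subgroup G), s ∉ L → s * s = 1) {t : G} (ht : Cen S t) (htL : t ∈ L) :
    ∃ (F : Type) (_ : Field F) (_ : Fintype F), Odd (Fintype.card F) ∧
      Nonempty (G ≃* Matrix.ProjectiveSpecialLinearGroup (Fin 2) F) := by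
  classical
  haveI : Fact (Nat.Prime 2) := ⟨Nat.prime_two⟩
  have hne : L.subgroupOf (S : Subgroup G) ≠ ⊤ := fun h => by
    rw [Subgroup.relIndex, h, Subgroup.index_top] at hidx
    exact absurd hidx (by norm_num)
  obtain ⟨⟨u, huS⟩, -, hu⟩ := SetLike.exists_of_lt (lt_top_iff_ne_top.2 hne)
  have huL : u ∉ L := fun h => hu (mem_subgroupOf.2 h)
  have hu1 : u ≠ 1 := fun h => huL (h ▸ one_mem L)
  have huu : u * u = 1 := hout u huS huL
  obtain ⟨⟨r, hrL⟩, hrgen⟩ := hLc.exists_generator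
  have hgen : ∀ s ∈ L, ∃ j : ℤ, r ^ j = s := fun s hs => by
    obtain ⟨j, hj⟩ := hrgen ⟨s, hs⟩
    exact ⟨j, congrArg Subtype.val hj⟩
  have hLeq : zpowers r = L := le_antisymm (zpowers_le.2 hrL) fun s hs => by
    obtain ⟨j, hj⟩ := hgen s hs
    exact hj ▸ zpow_mem_zpowers r j
  set n := orderOf r with hn
  have hn2 : 2 ≤ n := by
    have h1 : orderOf t ∣ n := orderOf_dvd_of_mem_zpowers (hLeq.symm ▸ htL)
    rw [ht.2.1] at h1
    exact Nat.le_of_dvd (orderOf_pos r) h1
  haveI : NeZero n := ⟨by omega⟩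
  have hurL : u * r ∉ L := fun h => huL (by
    have := mul_mem h (inv_mem hrL)
    rwa [mul_inv_cancel_right] at this)
  have hconj : u * r * u⁻¹ = r⁻¹ := by
    rw [inv_eq_of_mul_eq_one_right huu]
    refine eq_inv_of_mul_eq_one_left ?_
    rw [mul_assoc]
    exact hout _ (mul_mem huS (hLS hrL)) hurL
  have hmul : ∀ s ∈ (S : Subgroup G), s ∉ L → u * s ∈ L := fun s hs hsL =>
    mem_subgroupOf.1 ((Subgroup.mul_mem_iff_of_index_two (H := L.subgroupOf (S : Subgroup G)) hidx
      (a := ⟨u, huS⟩) (b := ⟨s, hs⟩)).2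
      (iff_of_false (fun h => huL (mem_subgroupOf.1 h)) (fun h => hsL (mem_subgroupOf.1 h))))
  let φ : DihedralGroup n →* G := TwoGroups.dihedralLift r u (pow_orderOf_eq_one r) huu hconj
  have hφS : ∀ d, φ d ∈ (S : Subgroup G) := by
    rintro (i | i)
    · obtain ⟨i, rfl⟩ := ZMod.intCast_surjective i
      rw [TwoGroups.dihedralLift_r]
      exact zpow_mem (hLS hrL) i
    · obtain ⟨i, rfl⟩ := ZMod.intCast_surjective i
      rw [TwoGroups.dihedralLift_sr]
      exact mul_mem huS (zpow_mem (hLS hrL) i)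
  have hbij : Function.Bijective (φ.codRestrict _ hφS) := by
    refine ⟨(injective_iff_map_eq_one _).2 ?_, ?_⟩
    · rintro (i | i) h
      · obtain ⟨i, rfl⟩ := ZMod.intCast_surjective i
        have h1 : φ (DihedralGroup.r (i : ZMod n)) = 1 := congrArg Subtype.val h
        rw [TwoGroups.dihedralLift_r, ← orderOf_dvd_iff_zpow_eq_one,
          ← ZMod.intCast_zmod_eq_zero_iff_dvd] at h1
        rw [h1]; rfl
      · obtain ⟨i, rfl⟩ := ZMod.intCast_surjective i
        have h1 : φ (DihedralGroup.sr (i : ZMod n)) = 1 := congrArg Subtype.val h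
        rw [TwoGroups.dihedralLift_sr] at h1
        exact absurd (eq_inv_of_mul_eq_one_left h1 ▸ inv_mem (zpow_mem hrL i)) huL
    · rintro ⟨s, hs⟩
      by_cases hsL : s ∈ L
      · obtain ⟨j, hj⟩ := hgen s hsL
        exact ⟨DihedralGroup.r (j : ZMod n), Subtype.ext ((TwoGroups.dihedralLift_r r u _ huu hconj j).trans hj)⟩
      · obtain ⟨j, hj⟩ := hgen _ (hmul s hs hsL)
        refine ⟨DihedralGroup.sr (j : ZMod n), Subtype.ext ((TwoGroups.dihedralLift_sr r u _ huu hconj j).trans ?_)⟩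
        show u * r ^ j = s
        rw [hj, ← mul_assoc, huu, one_mul]
  set C := centralizer ({t} : Set G) with hC
  set O := (Cfsg.oddCore C).map C.subtype with hO
  have hOmem : ∀ a ∈ O, Commute t a ∧ Odd (orderOf a) := by
    rintro _ ⟨a, ha, rfl⟩
    refine ⟨(mem_centralizer_singleton_iff.1 a.2).symm, ?_⟩
    rw [Subgroup.coe_subtype, Subgroup.orderOf_coe]
    exact (Nat.coprime_two_right.mp (Cores.pPrimeCore_coprime (G := C) (p := 2))).of_dvd_nat
      (Subgroup.orderOf_dvd_natCard _ ha)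
  have hrt : t ∈ zpowers r := hLeq.symm ▸ htL
  have hrO : ∀ a ∈ O, Commute r a := by
    intro a ha
    obtain ⟨h1, h2⟩ := hOmem a ha
    have hct : Commute t r := (ht.2.2 r (hLS hrL)).symm
    refine (commute_of_normalizing_coprime (conj_mem hG ht.2.1 hct (Or.inr hrt) h1.symm)
      (conj_mem hG ht.2.1 h1 (Or.inl h2) hct.symm) ?_).symm
    obtain ⟨k, hk⟩ := exists_pow_two S.isPGroup' (hLS hrL)
    rw [hk]
    exact (Nat.coprime_two_right.2 h2).pow_right k
  have hLO : ∀ l ∈ L, ∀ a ∈ O, Commute l a := fun l hl a ha => by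
    obtain ⟨j, rfl⟩ := hgen l hl
    exact (hrO a ha).zpow_left j
  have hinvO : ∀ s ∈ (S : Subgroup G), s ∉ L → ∀ a ∈ O, s * a * s⁻¹ = a⁻¹ := fun s hs hsL a ha =>
    inverts_of_ne hG hna ht.2.1 (orderOf_eq_prime (by rw [pow_two]; exact hout s hs hsL)
      fun h => hsL (h ▸ one_mem L)) (ht.2.2 s hs) (fun h => hsL (h ▸ htL)) (hOmem a ha).2 (hOmem a ha).1
  refine Cfsg.Agent.S0508.result S n hn2 ⟨(MulEquiv.ofBijective _ hbij).symm⟩ t ht.2.1 ht.1
    (fun s hs => (ht.2.2 s hs).eq) O rfl ?_ ?_ ?_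
  · intro hOne
    obtain ⟨a, haO, ha1⟩ : ∃ a ∈ O, a ≠ 1 := by
      by_contra hall
      push Not at hall
      exact hOne (eq_bot_iff.2 fun a ha => Subgroup.mem_bot.2 (hall a ha))
    have hK : (S : Subgroup G) ⊓ centralizer (O : Set G) = L := by
      refine le_antisymm (fun s hs => ?_) (fun l hl => ⟨hLS hl, mem_centralizer_iff.2 fun a ha => (hLO l hl a ha).eq.symm⟩)
      by_contra hsL
      have h1 := hinvO s hs.1 hsL a haO
      rw [← (mem_centralizer_iff.1 hs.2 a haO), mul_inv_cancel_right] at h1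
      have h2 : a ^ 2 = 1 := by rw [pow_two]; nth_rw 2 [h1]; exact mul_inv_cancel a
      exact ha1 (orderOf_eq_one_iff.1 (Nat.eq_one_of_dvd_coprimes
        (Nat.coprime_two_right.2 (hOmem a haO).2) dvd_rfl (orderOf_dvd_of_pow_eq_one h2)))
    rw [hK]
    exact ⟨hLc, hidx⟩
  · intro s hs hsn a ha
    refine hinvO s hs (fun hsL => hsn (mem_centralizer_iff.2 fun b hb => (hLO s hsL b hb).eq.symm)) a ha
  · intro Y hY hY1 g hg
    obtain ⟨a, ha, ha1⟩ : ∃ a ∈ Y, a ≠ 1 := by
      by_contra hall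
      push Not at hall
      exact hY1 (eq_bot_iff.2 fun a ha => Subgroup.mem_bot.2 (hall a ha))
    obtain ⟨h1, h2⟩ := hOmem a (hY ha)
    have ha' := (mem_normalizer_iff.1 hg a).1 ha
    obtain ⟨h1', -⟩ := hOmem _ (hY ha')
    have hgt : Commute (g * t * g⁻¹) (g * a * g⁻¹) := by
      show g * t * g⁻¹ * (g * a * g⁻¹) = g * a * g⁻¹ * (g * t * g⁻¹)
      calc g * t * g⁻¹ * (g * a * g⁻¹) = g * (t * a) * g⁻¹ := by group
        _ = g * (a * t) * g⁻¹ := by rw [h1.eq]
        _ = g * a * g⁻¹ * (g * t * g⁻¹) := by group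
    have ho : orderOf (g * t * g⁻¹) = 2 := by rw [orderOf_conj', ht.2.1]
    have hodd' : Odd (orderOf (g * a * g⁻¹)) := by rw [orderOf_conj']; exact h2
    have hne' : g * a * g⁻¹ ≠ 1 := fun h => ha1 (conj_eq_one_iff.1 h)
    have hC' := centralizer_eq hG ht.2.1 ho hne' hodd' h1' hgt
    have hcm : Commute (g * t * g⁻¹) t := by
      have h3 : t ∈ centralizer ({t} : Set G) := mem_centralizer_singleton_iff.2 rfl
      rw [← hC'] at h3
      exact (mem_centralizer_singleton_iff.1 h3).symm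
    have := eq_of_centralizes hG hna ht.2.1 ho hne' hodd' h1' hgt hcm
    rw [mem_centralizer_singleton_iff]
    calc g * t = g * t * g⁻¹ * g := by group
      _ = t * g := by rw [this]

/-- A simple group with the hypothesis is `PSL(2, q)` with `q > 3`. -/
theorem exists_psl :
    ∃ (F : Type) (_ : Field F) (_ : Fintype F), 3 < Fintype.card F ∧
      Nonempty (G ≃* Matrix.ProjectiveSpecialLinearGroup (Fin 2) F) := by
  classical
  haveI : Fact (Nat.Prime 2) := ⟨Nat.prime_two⟩
  have h2 : 2 ∣ Nat.card G := (Dvd.intro 2 rfl : 2 ∣ 4).trans (SmallGroups.four_dvd_card hna (by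
    by_contra hc
    have hs := Cfsg.Agent.S0205.result (G := G) (Nat.odd_iff.2 (by omega))
    exact hna (IsSimpleGroup.comm_iff_isSolvable.2 hs |> fun h => ⟨⟨h⟩⟩)))
  obtain ⟨S⟩ : Nonempty (Sylow 2 G) := inferInstance
  have hnc := SmallGroups.not_isCyclic_sylow_two hna h2 S
  have hodd3 : ∀ (F : Type) (_ : Field F) (_ : Fintype F), Odd (Fintype.card F) →
      Nonempty (G ≃* Matrix.ProjectiveSpecialLinearGroup (Fin 2) F) → 3 < Fintype.card F := by
    intro F _ _ hodd ⟨e⟩
    by_contra hle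
    have h1 := Fintype.one_lt_card (α := F)
    have hq : Fintype.card F = 3 := by
      obtain ⟨m, hm⟩ := hodd; omega
    have hcard := Cfsg.Agent.Linear.card_PSL_two_of_odd (F := F) hodd
    rw [hq, ← Nat.card_congr e.toEquiv] at hcard
    have hS4 := Subgroup.card_mul_index (S : Subgroup G)
    have hScard : Nat.card (S : Subgroup G) = 4 := by
      exact SmallGroups.card_sylow_subgroup (a := 2) (m := 3) (show Nat.card G = 2 ^ 2 * 3 by norm_num; omega)
        (by norm_num) S
    have htop := SmallGroups.eq_top_of_not_dvd hna (H := (S : Subgroup G)) (by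
      rw [show (S : Subgroup G).index = 3 by rw [hScard] at hS4; omega, show Nat.card G = 12 by omega]
      decide)
    rw [htop, Subgroup.card_top] at hScard
    omega
  by_cases helem : ∀ x ∈ (S : Subgroup G), x * x = 1
  · have hcomm : ∀ a ∈ (S : Subgroup G), ∀ b ∈ (S : Subgroup G), Commute a b := fun a ha b hb => by
      show a * b = b * a
      have e := inv_eq_of_mul_eq_one_right (helem _ (mul_mem ha hb))
      rw [mul_inv_rev, inv_eq_of_mul_eq_one_right (helem a ha), inv_eq_of_mul_eq_one_right (helem b hb)] at e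
      exact e.symm
    obtain ⟨t, ht⟩ := exists_cen S h2
    by_cases h8 : ∀ v ∈ (S : Subgroup G), orderOf v = 2 → ∃ a b : G, a ∈ (S : Subgroup G) ∧
        b ∈ (S : Subgroup G) ∧ orderOf a = 2 ∧ orderOf b = 2 ∧ a ≠ b ∧ a ≠ v ∧ b ≠ v ∧ a * b ≠ v
    · -- at least eight elements
      have hCv : ∀ v ∈ (S : Subgroup G), orderOf v = 2 → centralizer ({v} : Set G) = (S : Subgroup G) := by
        intro v hv hv2
        refine centralizer_eq_sylow S (fun h hh => hcomm h hh v hv) fun c hvc hco => ?_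
        by_contra hc1
        obtain ⟨a, b, ha, hb, ha2, hb2, hab, hav, hbv, habv⟩ := h8 v hv hv2
        exact habv (mul_eq hG hna hv2 ha2 hb2 (hcomm a ha v hv) (hcomm b hb v hv) (hcomm a ha b hb)
          hab hav hbv hc1 hco hvc)
      have hnn : ¬ (S : Subgroup G).Normal := fun hn => by
        have hSt : (S : Subgroup G) = ⊤ := SmallGroups.eq_top_of_normal hn (S.ne_bot_of_dvd_card h2)
        exact hna ⟨⟨fun a b => (hcomm a (hSt ▸ mem_top a) b (hSt ▸ mem_top b)).eq⟩⟩
      obtain ⟨F, iF, iFt, hq, e⟩ := Cfsg.Agent.S1230.result S hnc hnn (by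
        intro z hz
        obtain ⟨g, hg⟩ := exists_conj_le_sylow S (R := zpowers z)
          (IsPGroup.of_card (n := 1) (by rw [Nat.card_zpowers, hz, pow_one]))
        have hzS := hg z (mem_zpowers z)
        have hCz : ∀ c ∈ centralizer ({z} : Set G), g * c * g⁻¹ ∈ (S : Subgroup G) := fun c hc => by
          rw [← hCv _ hzS (by rw [orderOf_conj', hz]), centralizer_conj_mem]
          rwa [show g⁻¹ * (g * c * g⁻¹) * g = c by group]
        refine ⟨⟨⟨fun c d => Subtype.ext ?_⟩⟩, fun c hc => ?_⟩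
        · have h := (hcomm _ (hCz c c.2) _ (hCz d d.2)).eq
          calc (c : G) * d = g⁻¹ * (g * c * g⁻¹ * (g * d * g⁻¹)) * g := by group
            _ = g⁻¹ * (g * d * g⁻¹ * (g * c * g⁻¹)) * g := by rw [h]
            _ = (d : G) * c := by group
        · have h := helem _ (hCz c hc)
          rw [pow_two]
          rw [show g * c * g⁻¹ * (g * c * g⁻¹) = g * (c * c) * g⁻¹ by group, conj_eq_one_iff] at h
          exact h)
      refine ⟨F, iF, iFt, ?_, e⟩
      obtain ⟨a, b, ha, hb, ha2, hb2, hab, hav, hbv, -⟩ := h8 t ht.1 ht.2.1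
      rw [hq]
      have hf : Function.Injective (![⟨1, one_mem _⟩, ⟨t, ht.1⟩, ⟨a, ha⟩, ⟨b, hb⟩] :
          Fin 4 → (S : Subgroup G)) := by
        intro i j hij
        fin_cases i <;> fin_cases j <;>
          simp_all [Subtype.ext_iff, (involution_ne_one ht.2.1).symm, (involution_ne_one ha2).symm,
            (involution_ne_one hb2).symm, involution_ne_one ht.2.1, involution_ne_one ha2,
            involution_ne_one hb2, hav.symm, hbv.symm, hab.symm]
      have := Nat.card_le_card_of_injective _ hf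
      rw [Nat.card_fin] at this
      omega
    · -- four elements
      push Not at h8
      obtain ⟨v, hv, hv2, h8⟩ := h8
      obtain ⟨w, hwS, hw2, hwv⟩ : ∃ w ∈ (S : Subgroup G), orderOf w = 2 ∧ w ≠ v := by
        by_contra hall
        push Not at hall
        refine hnc ?_
        have heq : (S : Subgroup G) = zpowers v := by
          refine le_antisymm (fun s hs => ?_) (zpowers_le.2 hv)
          by_cases hs1 : s = 1
          · rw [hs1]; exact one_mem _
          · rw [hall s hs (orderOf_eq_prime (by rw [pow_two]; exact helem s hs) hs1)]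
            exact mem_zpowers v
        rw [heq]
        infer_instance
      have hvS : Cen S v := ⟨hv, hv2, fun h hh => hcomm h hh v hv⟩
      have hmemv : ∀ s, s ∈ zpowers v ↔ s = 1 ∨ s = v := by
        intro s
        constructor
        · intro hs
          by_cases hs1 : s = 1
          · exact Or.inl hs1
          · have hd := orderOf_dvd_of_mem_zpowers hs
            rw [hv2] at hd
            rcases (Nat.dvd_prime Nat.prime_two).1 hd with h | h
            · exact absurd (orderOf_eq_one_iff.1 h) hs1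
            · exact Or.inr (involution_unique h hv2 hs (mem_zpowers v))
        · rintro (rfl | rfl)
          · exact one_mem _
          · exact mem_zpowers _
      have hall4 : ∀ s ∈ (S : Subgroup G), s = 1 ∨ s = v ∨ s = w ∨ w * s = v := by
        intro s hs
        by_contra hn
        push Not at hn
        obtain ⟨hs1, hsv, hsw, hws⟩ := hn
        exact hws (h8 w s hwS hs hw2 (orderOf_eq_prime (by rw [pow_two]; exact helem s hs) hs1)
          (fun h => hsw h.symm) hwv hsv)
      have hidx : (zpowers v).relIndex (S : Subgroup G) = 2 := by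
        rw [Subgroup.relIndex, Subgroup.index_eq_two_iff]
        refine ⟨⟨w, hwS⟩, fun b => ?_⟩
        rw [mem_subgroupOf, mem_subgroupOf, Subgroup.coe_mul]
        have hwz : w ∉ zpowers v := fun h => ((hmemv w).1 h).elim (involution_ne_one hw2) hwv
        by_cases hb : (b : G) ∈ zpowers v
        · refine Or.inr ⟨hb, fun h => hwz ?_⟩
          have := mul_mem (inv_mem hb) h
          rwa [inv_mul_cancel_left] at this
        · refine Or.inl ⟨?_, hb⟩
          rcases hall4 b b.2 with h | h | h | h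
          · exact absurd ((hmemv _).2 (Or.inl h)) hb
          · exact absurd ((hmemv _).2 (Or.inr h)) hb
          · exact (hmemv _).2 (Or.inl (by rw [h, involution_mul_self hw2]))
          · exact (hmemv _).2 (Or.inr (by rw [(hcomm b b.2 w hwS).eq, h]))
      obtain ⟨F, iF, iFt, hodd, he⟩ := psl_of_cyclic_inverted hG hna S (zpowers_le.2 hv) hidx
        (fun s hs _ => helem s hs) hvS (mem_zpowers v)
      exact ⟨F, iF, iFt, hodd3 F iF iFt hodd he, he⟩
  · push Not at helem
    obtain ⟨x, hxS, hx⟩ := helem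
    obtain ⟨k, hk⟩ := exists_pow_two S.isPGroup' hxS
    obtain ⟨y, hy, hy4⟩ := exists_order_four hk hx
    obtain ⟨L, hLS, hLc, hidx, hout, hcenL⟩ :=
      exists_cyclic_inverted hG hna S h2 (zpowers_le.2 hxS hy) hy4
    obtain ⟨t, ht⟩ := exists_cen S h2
    obtain ⟨F, iF, iFt, hodd, he⟩ := psl_of_cyclic_inverted hG hna S hLS (hLc := hLc) hidx hout ht (hcenL t ht)
    exact ⟨F, iF, iFt, hodd3 F iF iFt hodd he, he⟩

end Cfsg.Agent.CycNorm
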