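import Cfsg.Agent.CyclicEvenNorm.Local
import Cfsg.Agent.Invol.StronglyEmbedded
import Cfsg.Agent.PGroup.Basic

/-!
# Simple groups in which the subgroups of a cyclic subgroup of even order share their normalizer:
an element of odd order commutes with at most one involution among commuting ones
-/

set_option autoImplicit false

namespace Cfsg.Agent.CycNorm

open Subgroup
open Cfsg.Agent.TwoFusion

variable {G : Type*} [Group G] [Finite G]

/-- A proper subgroup of a 2-group is properly contained in its normalizer there. -/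
theorem exists_normalizing {P T : Subgroup G} (hP : IsPGroup 2 P) (h : ¬ P ≤ T) :
    ∃ g ∈ P, g ∉ T ∧ ∀ c ∈ P, c ∈ T → g * c * g⁻¹ ∈ T := by
  haveI : Fact (Nat.Prime 2) := ⟨Nat.prime_two⟩
  haveI : Group.IsNilpotent P := hP.isNilpotent
  have hlt : T.subgroupOf P < ⊤ := lt_top_iff_ne_top.2 fun he => h (Subgroup.subgroupOf_eq_top.1 he)
  obtain ⟨g, hgn, hg⟩ := SetLike.exists_of_lt (Group.normalizerCondition_of_isNilpotent _ hlt)
  refine ⟨g, g.2, hg, fun c hcP hcT => ?_⟩
  simpa [mem_subgroupOf] using (mem_normalizer_iff.1 hgn ⟨c, hcP⟩).1 (mem_subgroupOf.2 hcT)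

theorem prod_involution {v w : G} (hv : orderOf v = 2) (hw : orderOf w = 2) (hc : Commute v w)
    (hne : v ≠ w) : orderOf (v * w) = 2 := by
  refine orderOf_eq_prime ?_ fun h => hne ?_
  · rw [hc.mul_pow, pow_two, pow_two, involution_mul_self hv, involution_mul_self hw, mul_one]
  · rw [eq_inv_of_mul_eq_one_left h, involution_inv hw]

/-- Two involutions inverting an element have a product centralising it. -/
theorem commute_mul_of_inverts {v w a : G} (hv : v * a * v⁻¹ = a⁻¹) (hw : w * a * w⁻¹ = a⁻¹) :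
    Commute (v * w) a := by
  show v * w * a = a * (v * w)
  calc v * w * a = v * (w * a * w⁻¹) * v⁻¹ * (v * w) := by group
    _ = (v * a * v⁻¹)⁻¹ * (v * w) := by rw [hw]; group
    _ = a * (v * w) := by rw [hv, inv_inv]

variable (hG : Hyp G)
include hG

/-- Three commuting involutions cannot all be different from the one centralising `a`. -/
theorem centralizer_eq_of_two {t v w a : G} (ht : orderOf t = 2) (ha : a ≠ 1) (hodd : Odd (orderOf a))
    (hta : Commute t a) (hv : orderOf v = 2) (hw : orderOf w = 2) (hvt : Commute v t) (hwt : Commute w t)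
    (hvw : Commute v w) (hne : v ≠ w)
    (hv' : centralizer ({v} : Set G) ≠ centralizer ({t} : Set G))
    (hw' : centralizer ({w} : Set G) ≠ centralizer ({t} : Set G)) :
    centralizer ({v * w} : Set G) = centralizer ({t} : Set G) :=
  centralizer_eq hG ht (prod_involution hv hw hvw hne) ha hodd hta
    (commute_mul_of_inverts (inverts hG ht hv hvt hodd hta hv') (inverts hG ht hw hwt hodd hta hw'))

variable [IsSimpleGroup G]

/-- An element of odd order, not one, commutes with at most one of two commuting involutions. -/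
theorem eq_of_centralizes (hna : ¬ IsMulCommutative G) {t u a : G} (ht : orderOf t = 2)
    (hu : orderOf u = 2) (ha : a ≠ 1) (hodd : Odd (orderOf a)) (hta : Commute t a) (hua : Commute u a)
    (htu : Commute u t) : u = t := by
  classical
  haveI : Fact (Nat.Prime 2) := ⟨Nat.prime_two⟩
  by_contra hne
  set H := centralizer ({t} : Set G) with hH
  have hmemH : ∀ c, c ∈ H ↔ Commute c t := fun c => by
    rw [hH, mem_centralizer_singleton_iff]; exact Iff.rfl
  have hcen : ∀ {v : G}, orderOf v = 2 → Commute v a → centralizer ({v} : Set G) = H :=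
    fun hv hva => centralizer_eq hG ht hv ha hodd hta hva
  -- the involutions with centraliser `H`, with one
  let W : Subgroup G :=
    { carrier := {w | w = 1 ∨ (orderOf w = 2 ∧ centralizer ({w} : Set G) = H)}
      one_mem' := Or.inl rfl
      mul_mem' := by
        rintro v w (rfl | ⟨hv, hvH⟩) (rfl | ⟨hw, hwH⟩)
        · exact Or.inl (one_mul 1)
        · exact Or.inr (by rw [one_mul]; exact ⟨hw, hwH⟩)
        · exact Or.inr (by rw [mul_one]; exact ⟨hv, hvH⟩)
        · by_cases hvw : v = w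
          · exact Or.inl (by rw [hvw, involution_mul_self hw])
          have haH : a ∈ H := (hmemH a).2 hta.symm
          have hva : Commute v a := (mem_centralizer_singleton_iff.1 (hvH.symm ▸ haH)).symm
          have hwa : Commute w a := (mem_centralizer_singleton_iff.1 (hwH.symm ▸ haH)).symm
          have hcm : Commute w v := by
            have h1 : w ∈ centralizer ({w} : Set G) := mem_centralizer_singleton_iff.2 rfl
            rw [hwH, ← hvH] at h1
            exact mem_centralizer_singleton_iff.1 h1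
          have h2 := prod_involution hv hw hcm.symm hvw
          exact Or.inr ⟨h2, hcen h2 (hva.mul_left hwa)⟩
      inv_mem' := by
        rintro v (rfl | ⟨hv, hvH⟩)
        · exact Or.inl inv_one
        · exact Or.inr (by rw [involution_inv hv]; exact ⟨hv, hvH⟩) }
  have hWmem : ∀ w, w ∈ W ↔ w = 1 ∨ (orderOf w = 2 ∧ centralizer ({w} : Set G) = H) := fun w => Iff.rfl
  have hWcen : ∀ w ∈ W, ∀ c ∈ H, Commute c w := by
    intro w hw c hc
    rcases (hWmem w).1 hw with rfl | ⟨-, hwH⟩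
    · exact Commute.one_right c
    · exact mem_centralizer_singleton_iff.1 (hwH.symm ▸ hc)
  have hWH : W ≤ H := by
    intro w hw
    rcases (hWmem w).1 hw with rfl | ⟨-, hwH⟩
    · exact one_mem H
    · exact hwH ▸ mem_centralizer_singleton_iff.2 rfl
  have htW : t ∈ W := (hWmem t).2 (Or.inr ⟨ht, rfl⟩)
  have huW : u ∈ W := (hWmem u).2 (Or.inr ⟨hu, hcen hu hua⟩)
  have hW2 : IsPGroup 2 W := by
    intro w
    refine ⟨1, Subtype.ext ?_⟩
    rcases (hWmem w).1 w.2 with h | ⟨h, -⟩
    · simp [h]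
    · simpa [pow_two] using involution_mul_self h
  -- the normalizer of `W`
  set M := normalizer (W : Set G) with hM
  have hconjW : ∀ g : G, (∀ c, g⁻¹ * c * g ∈ H ↔ c ∈ H) → g ∈ M := by
    intro g hg
    rw [hM, mem_normalizer_iff]
    intro w
    rw [hWmem, hWmem, conj_eq_one_iff, orderOf_conj']
    refine or_congr Iff.rfl (and_congr_right fun _ => ?_)
    constructor
    · intro h
      ext c
      rw [centralizer_conj_mem, h, hg]
    · intro h
      ext c
      have h1 := centralizer_conj_mem (t := w) (g := g) (c := g * c * g⁻¹)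
      have h2 := hg (g * c * g⁻¹)
      rw [show g⁻¹ * (g * c * g⁻¹) * g = c by group] at h1 h2
      rw [h] at h1
      exact h1.symm.trans h2.symm
  have hnormH : ∀ g : G, ∀ w ∈ W, w ≠ 1 → centralizer ({g * w * g⁻¹} : Set G) = H → g ∈ M := by
    intro g w hw hw1 h
    obtain ⟨-, hwH⟩ := ((hWmem w).1 hw).resolve_left hw1
    refine hconjW g fun c => ?_
    conv_rhs => rw [← h, centralizer_conj_mem, hwH]
  have factA : ∀ g : G, ∀ w ∈ W, w ≠ 1 → g * w * g⁻¹ ∈ H → g ∈ M := by
    intro g w hw hw1 hmem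
    by_contra hgM
    obtain ⟨hw2, hwH⟩ := ((hWmem w).1 hw).resolve_left hw1
    have hwt' : Commute t (g * w * g⁻¹) := ((hmemH _).1 hmem).symm
    have htg : g⁻¹ * t * g ∈ H := by
      rw [← hwH, ← centralizer_conj_mem, mem_centralizer_singleton_iff]
      exact hwt'.eq
    have hall : ∀ v ∈ W, v ≠ 1 → orderOf (g * v * g⁻¹) = 2 ∧ Commute (g * v * g⁻¹) t ∧
        centralizer ({g * v * g⁻¹} : Set G) ≠ H := by
      intro v hv hv1
      obtain ⟨hv2, -⟩ := ((hWmem v).1 hv).resolve_left hv1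
      refine ⟨by rw [orderOf_conj', hv2], ?_, fun h => hgM (hnormH g v hv hv1 h)⟩
      have h1 : (g⁻¹ * t * g) * v = v * (g⁻¹ * t * g) := (hWcen v hv _ htg).eq
      show g * v * g⁻¹ * t = t * (g * v * g⁻¹)
      calc g * v * g⁻¹ * t = g * (v * (g⁻¹ * t * g)) * g⁻¹ := by group
        _ = g * (g⁻¹ * t * g * v) * g⁻¹ := by rw [h1]
        _ = t * (g * v * g⁻¹) := by group
    obtain ⟨h1o, h1c, h1n⟩ := hall t htW (involution_ne_one ht)
    obtain ⟨h2o, h2c, h2n⟩ := hall u huW (involution_ne_one hu)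
    have htu1 : t * u ≠ 1 := fun h => hne (by
      rw [eq_inv_of_mul_eq_one_right h, involution_inv ht])
    obtain ⟨-, -, h3n⟩ := hall (t * u) (mul_mem htW huW) htu1
    refine h3n ?_
    rw [show g * (t * u) * g⁻¹ = g * t * g⁻¹ * (g * u * g⁻¹) by group]
    refine centralizer_eq_of_two hG ht ha hodd hta h1o h2o h1c h2c ?_ (fun h => hne ?_) h1n h2n
    · show g * t * g⁻¹ * (g * u * g⁻¹) = g * u * g⁻¹ * (g * t * g⁻¹)
      calc g * t * g⁻¹ * (g * u * g⁻¹) = g * (t * u) * g⁻¹ := by group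
        _ = g * (u * t) * g⁻¹ := by rw [htu.eq]
        _ = g * u * g⁻¹ * (g * t * g⁻¹) := by group
    · exact (mul_left_cancel (mul_right_cancel h)).symm
  have hMW : ∀ g ∈ M, ∀ w ∈ W, g * w * g⁻¹ ∈ W := fun g hg w hw => (mem_normalizer_iff.1 hg w).1 hw
  -- 2-elements of `M`
  have factB : ∀ m ∈ M, (∃ k, orderOf m = 2 ^ k) → m ∈ H := by
    rintro m hm ⟨k, hk⟩
    have hm2 : IsPGroup 2 (zpowers m) := IsPGroup.of_card (n := k) (by rw [Nat.card_zpowers, hk])
    have hP : IsPGroup 2 ↥(zpowers m ⊔ W) := hm2.to_sup_of_normal_right' hW2 (zpowers_le.2 hm)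
    set P := zpowers m ⊔ W with hPdef
    have hPM : P ≤ M := sup_le (zpowers_le.2 hm) (Subgroup.le_normalizer)
    haveI hn : (W.subgroupOf P).Normal := ⟨fun n hn g => mem_subgroupOf.2 (hMW g (hPM g.2) n (mem_subgroupOf.1 hn))⟩
    have hne' : W.subgroupOf P ≠ ⊥ := fun h => by
      have : (⟨t, (le_sup_right : W ≤ P) htW⟩ : P) ∈ W.subgroupOf P := mem_subgroupOf.2 htW
      rw [h, Subgroup.mem_bot] at this
      exact involution_ne_one ht (congrArg Subtype.val this)
    obtain ⟨⟨w, hwW, hwc⟩, hw1⟩ := Subgroup.ne_bot_iff_exists_ne_one.1 (PGroup.inf_center_ne_bot hP _ hne')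
    have hw1' : (w : G) ≠ 1 := fun h => hw1 (Subtype.ext (Subtype.ext h))
    rw [← (((hWmem _).1 (mem_subgroupOf.1 hwW)).resolve_left hw1').2, mem_centralizer_singleton_iff]
    exact congrArg Subtype.val
      (Subgroup.mem_center_iff.1 hwc ⟨m, (le_sup_left : zpowers m ≤ P) (mem_zpowers m)⟩)
  have hinvM : ∀ z ∈ M, orderOf z = 2 → z ∈ H := fun z hz h => factB z hz ⟨1, by rw [h, pow_one]⟩
  -- involutions of `H` outside `W`
  have factC : ∀ z ∈ H, orderOf z = 2 → centralizer ({z} : Set G) ≠ H →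
      centralizer ({z} : Set G) ≤ M := by
    intro z hzH hz hzn
    have hzW : ∀ w ∈ W, Commute z w := fun w hw => hWcen w hw z hzH
    have htu1 : t ≠ u := fun h => hne h.symm
    have hodd1 : ∀ c, Commute z c → Odd (orderOf c) → c = 1 := by
      intro c hzc hcodd
      by_contra hc1
      have hCu : centralizer ({u} : Set G) = H := hcen hu hua
      have h1 := centralizer_eq_of_two hG hz hc1 hcodd hzc ht hu (hzW t htW).symm (hzW u huW).symm
        htu.symm htu1 hzn.symm (hCu ▸ hzn.symm)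
      rw [hcen (prod_involution ht hu htu.symm htu1) (hta.mul_left hua)] at h1
      exact hzn h1.symm
    have hP : IsPGroup 2 ↥(centralizer ({z} : Set G)) := by
      rintro ⟨c, hc⟩
      obtain ⟨c₁, c₂, hcc, hc₁, hc₂, hc₁o, k, hk⟩ := exists_odd_two_parts c
      have : c₁ = 1 := by
        refine hodd1 c₁ ?_ hc₁o
        obtain ⟨i, hi⟩ := hc₁
        rw [← hi]
        exact Commute.zpow_right (mem_centralizer_singleton_iff.1 hc).symm i
      rw [this, one_mul] at hcc
      refine ⟨k, Subtype.ext ?_⟩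
      show c ^ 2 ^ k = 1
      rw [hcc, ← hk, pow_orderOf_eq_one]
    by_contra hle
    obtain ⟨g, hgP, hgM, hgn⟩ := exists_normalizing hP hle
    refine hgM (factA g t htW (involution_ne_one ht) (hinvM _ ?_ (by rw [orderOf_conj', ht])))
    exact hgn t (mem_centralizer_singleton_iff.2 (hzW t htW).symm) (Subgroup.le_normalizer htW)
  -- `M` is strongly embedded
  have hMtop : M ≠ ⊤ := fun h => by
    haveI hWn : W.Normal := Subgroup.normalizer_eq_top_iff.1 h
    have hWtop : W = ⊤ := SmallGroups.eq_top_of_normal hWn fun hb => involution_ne_one ht (by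
      rw [hb, Subgroup.mem_bot] at htW; exact htW)
    rcases (hWmem a).1 (hWtop ▸ mem_top a) with h1 | ⟨h1, -⟩
    · exact ha h1
    · rw [h1] at hodd; exact absurd hodd (by decide)
  have htM : t ∈ M := Subgroup.le_normalizer htW
  have hMeven : Even (Nat.card M) := even_iff_two_dvd.2 (ht ▸ Subgroup.orderOf_dvd_natCard _ htM)
  have hSE : Cfsg.IsStronglyEmbedded M := by
    refine Invol.isStronglyEmbedded_of_forall hMtop hMeven fun g x hx hxM hx'M => ?_
    have hxH := hinvM x hxM hx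
    have hx'2 : orderOf (g⁻¹ * x * g) = 2 := by
      rw [show g⁻¹ * x * g = g⁻¹ * x * (g⁻¹)⁻¹ by group, orderOf_conj', hx]
    have hx'H := hinvM _ hx'M hx'2
    by_cases hxW : centralizer ({x} : Set G) = H
    · exact inv_mem_iff.1 (factA g⁻¹ x ((hWmem x).2 (Or.inr ⟨hx, hxW⟩)) (involution_ne_one hx)
        (by rwa [inv_inv]))
    by_cases hx'W : centralizer ({g⁻¹ * x * g} : Set G) = H
    · refine factA g _ ((hWmem _).2 (Or.inr ⟨hx'2, hx'W⟩)) (involution_ne_one hx'2) ?_
      rwa [show g * (g⁻¹ * x * g) * g⁻¹ = x by group]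
    refine inv_mem_iff.1 (factA g⁻¹ t htW (involution_ne_one ht) (hinvM _ ?_ (by rw [orderOf_conj', ht])))
    refine factC _ hx'H hx'2 hx'W ?_
    rw [inv_inv, mem_centralizer_singleton_iff]
    calc g⁻¹ * t * g * (g⁻¹ * x * g) = g⁻¹ * (t * x) * g := by group
      _ = g⁻¹ * (x * t) * g := by rw [((hmemH x).1 hxH).eq]
      _ = g⁻¹ * x * g * (g⁻¹ * t * g) := by group
  -- one class of involutions
  obtain ⟨i, hi, hiM⟩ : ∃ i : G, orderOf i = 2 ∧ i ∉ M := by
    by_contra hall
    push Not at hall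
    exact hMtop (eq_top_iff.2 fun g _ => factA g t htW (involution_ne_one ht)
      (hinvM _ (hall _ (by rw [orderOf_conj', ht])) (by rw [orderOf_conj', ht])))
  obtain ⟨v₀, -, hv₀, -⟩ := se_exists_swap hSE ht htM hi hiM
  have hclass : ∀ z : G, orderOf z = 2 → ∃ g : G, g * t * g⁻¹ = z := by
    intro z hz
    by_cases hzM : z ∈ M
    · obtain ⟨v, -, hv, -⟩ := se_exists_swap hSE hz hzM hi hiM
      refine ⟨v⁻¹ * v₀, ?_⟩
      rw [show v⁻¹ * v₀ * t * (v⁻¹ * v₀)⁻¹ = v⁻¹ * (v₀ * t * v₀⁻¹) * v by group, hv₀, ← hv]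
      group
    · obtain ⟨v, -, hv, -⟩ := se_exists_swap hSE ht htM hz hzM
      exact ⟨v, hv⟩
  have hallW : ∀ z ∈ M, orderOf z = 2 → z ∈ W := by
    intro z hzM hz
    obtain ⟨g, rfl⟩ := hclass z hz
    exact hMW g (factA g t htW (involution_ne_one ht) (hinvM _ hzM hz)) t htW
  -- a Sylow 2-subgroup
  obtain ⟨S, hWS⟩ := hW2.exists_le_sylow
  have hSM : (S : Subgroup G) ≤ M := by
    by_contra hle
    obtain ⟨g, hgS, hgM, hgn⟩ := exists_normalizing S.isPGroup' hle
    exact hgM (factA g t htW (involution_ne_one ht)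
      (hinvM _ (hgn t (hWS htW) htM) (by rw [orderOf_conj', ht])))
  have hSH : (S : Subgroup G) ≤ H := fun x hx => factB x (hSM hx) (exists_pow_two S.isPGroup' hx)
  have hScen : ∀ v ∈ (S : Subgroup G), orderOf v = 2 → ∀ h ∈ (S : Subgroup G), Commute h v :=
    fun v hv hv2 h hh => hWcen v (hallW v (hSM hv) hv2) h (hSH hh)
  have hStrans : ∀ v ∈ (S : Subgroup G), orderOf v = 2 → ∀ w ∈ (S : Subgroup G), orderOf w = 2 →
      ∃ g : G, g * v * g⁻¹ = w ∧ ∀ h ∈ (S : Subgroup G), g * h * g⁻¹ ∈ (S : Subgroup G) := by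
    intro v hv hv2 w hw hw2
    obtain ⟨g₁, hg₁⟩ := hclass v hv2
    obtain ⟨g₂, hg₂⟩ := hclass w hw2
    set g := g₂ * g₁⁻¹ with hg
    have hgw : g * v * g⁻¹ = w := by rw [hg, ← hg₁, ← hg₂]; group
    have hmem : ∀ z ∈ (S : Subgroup G), orderOf z = 2 → z ∈ centralizer ((S : Subgroup G) : Set G) :=
      fun z hz hz2 => mem_centralizer_iff.2 fun h hh => (hScen z hz hz2 h hh).eq
    obtain ⟨n, hn, hnv⟩ := Sylow.conj_eq_normalizer_conj_of_mem_centralizer S v g⁻¹ (hmem v hv hv2)
      (by rw [inv_inv, hgw]; exact hmem w hw hw2)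
    refine ⟨n⁻¹, ?_, fun h hh => (mem_normalizer_iff.1 (inv_mem hn) h).1 hh⟩
    rw [inv_inv, ← hnv, inv_inv, hgw]
  have hSab : ∀ x ∈ (S : Subgroup G), ∀ y ∈ (S : Subgroup G), Commute x y := fun x hx y hy =>
    comm_of_central hG S.isPGroup' hScen hStrans ⟨t, hWS htW, u, hWS huW, ht, hu, fun h => hne h.symm⟩ hx hy
  -- 2-elements of `H`
  have htwo : ∀ b ∈ H, ∀ k, orderOf b = 2 ^ k → b ∈ (S : Subgroup G) ∧ ∀ c ∈ H, Odd (orderOf c) → Commute c b := by
    intro b hbH k hk
    have hbM : b ∈ M := by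
      rw [hM, mem_normalizer_iff]
      intro w
      constructor
      · intro hw
        rwa [(hWcen w hw b hbH).eq, mul_inv_cancel_right]
      · intro hw
        have h1 := hWcen _ hw b hbH
        have e : w = b * w * b⁻¹ := by
          calc w = b⁻¹ * (b * w * b⁻¹ * b) := by group
            _ = b⁻¹ * (b * (b * w * b⁻¹)) := by rw [h1.eq]
            _ = b * w * b⁻¹ := by group
        rwa [e]
    by_cases hb2 : b * b = 1
    · have hbW : b ∈ W := by
        by_cases hb1 : b = 1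
        · rw [hb1]; exact one_mem W
        · exact hallW b hbM (orderOf_eq_prime (by rw [pow_two]; exact hb2) hb1)
      exact ⟨hWS hbW, fun c hc _ => hWcen b hbW c hc⟩
    have hb1 : b ≠ 1 := fun h => hb2 (by rw [h, one_mul])
    obtain ⟨z, hzb, hz⟩ := exists_order_two hk hb1
    have hzW : z ∈ W := hallW z (zpowers_le.2 hbM hzb) hz
    have hzc : Commute z b := by
      obtain ⟨i, hi⟩ := hzb
      rw [← hi]
      exact Commute.zpow_self b i
    have hnorm : ∀ c ∈ H, c * b * c⁻¹ ∈ zpowers b := fun c hc =>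
      conj_mem hG hz hzc (Or.inr hzb) (hWcen z hzW c hc)
    refine ⟨?_, fun c hc hco => ?_⟩
    · have hbn : (S : Subgroup G) ≤ normalizer (zpowers b : Set G) := by
        intro c hc
        rw [normalizer_eq hG hz hb1 hzc (Or.inr hzb), mem_centralizer_singleton_iff]
        exact (hWcen z hzW c (hSH hc)).eq
      have hsup : IsPGroup 2 ↥((S : Subgroup G) ⊔ zpowers b) :=
        S.isPGroup'.to_sup_of_normal_right' (IsPGroup.of_card (n := k) (by rw [Nat.card_zpowers, hk])) hbn
      exact (S.is_maximal' hsup le_sup_left).le ((le_sup_right : zpowers b ≤ _) (mem_zpowers b))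
    · refine commute_of_normalizing_coprime (hnorm c hc)
        (conj_mem hG ht ((hmemH c).1 hc).symm (Or.inl hco) ((hmemH b).1 hbH)) ?_
      rw [hk]
      exact (Nat.coprime_two_right.2 hco).pow_right k
  -- `H` is abelian
  have hHab : ∀ c ∈ H, ∀ d ∈ H, Commute c d := by
    intro c hc d hd
    obtain ⟨c₁, c₂, hc', hc₁, hc₂, hc₁o, k, hk⟩ := exists_odd_two_parts c
    obtain ⟨d₁, d₂, hd', hd₁, hd₂, hd₁o, l, hl⟩ := exists_odd_two_parts d
    obtain ⟨hc₂S, hc₂c⟩ := htwo c₂ (zpowers_le.2 hc hc₂) k hk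
    obtain ⟨hd₂S, hd₂c⟩ := htwo d₂ (zpowers_le.2 hd hd₂) l hl
    have hc₁H : c₁ ∈ H := zpowers_le.2 hc hc₁
    have hd₁H : d₁ ∈ H := zpowers_le.2 hd hd₁
    have h11 : Commute c₁ d₁ := odd_commute hG ht hc₁o hd₁o ((hmemH c₁).1 hc₁H).symm ((hmemH d₁).1 hd₁H).symm
    rw [hc', hd']
    exact (h11.mul_right (hd₂c c₁ hc₁H hc₁o)).mul_left
      ((hc₂c d₁ hd₁H hd₁o).symm.mul_right (hSab c₂ hc₂S d₂ hd₂S))
  have hab : ∀ z : G, orderOf z = 2 → IsMulCommutative ↥(centralizer ({z} : Set G)) := by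
    intro z hz
    obtain ⟨g, rfl⟩ := hclass z hz
    refine ⟨⟨fun c d => Subtype.ext ?_⟩⟩
    have h := hHab _ (centralizer_conj_mem.1 c.2) _ (centralizer_conj_mem.1 d.2)
    calc (c : G) * d = g * (g⁻¹ * c * g * (g⁻¹ * d * g)) * g⁻¹ := by group
      _ = g * (g⁻¹ * d * g * (g⁻¹ * c * g)) * g⁻¹ := by rw [h.eq]
      _ = (d : G) * c := by group
  have h2 : 2 ∣ Nat.card G := ht ▸ orderOf_dvd_natCard t
  have haa := sq_eq_one_of_comm hG hna h2 hab ht hta.symm
  exact ha (orderOf_eq_one_iff.1 (Nat.eq_one_of_dvd_coprimes (Nat.coprime_two_right.2 hodd)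
    dvd_rfl (orderOf_dvd_of_pow_eq_one (by rw [pow_two]; exact haa))))

end Cfsg.Agent.CycNorm
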